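import Groth.Agent.Lib.FEtLimit25.Basic
import Groth.Agent.Lib.AlgColimH13.Spec
import Groth.Agent.Lib.Descend.Basic
import Groth.Prelude.Def_FEt

/-!
Covers over a base change come from a finitely presented algebra.
-/

set_option autoImplicit false
set_option linter.style.haveILetI false
set_option backward.isDefEq.respectTransparency.types false

universe u

open CategoryTheory CategoryTheory.Limits AlgebraicGeometry TopologicalSpace Opposite

noncomputable section

namespace Groth.Agent.PiOne25

/-- A cover of a base change is defined over a finitely presented algebra. -/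
theorem exists_model_alg (A R : Type u) [CommRing A] [CommRing R] [Algebra A R] {X : Scheme.{u}}
    (f : X ⟶ Spec (CommRingCat.of A)) [CompactSpace ↥X] [QuasiSeparatedSpace ↥X]
    (V : FEt.Cat (pullback f (Spec.map (CommRingCat.ofHom (algebraMap A R))))) :
    ∃ (B : Type u) (_ : CommRing B) (_ : Algebra A B) (_ : Algebra.FinitePresentation A B) (φ : B →ₐ[A] R)
      (b : pullback f (Spec.map (CommRingCat.ofHom (algebraMap A R))) ⟶
        pullback f (Spec.map (CommRingCat.ofHom (algebraMap A B))))
      (_ : b ≫ pullback.fst f _ = pullback.fst f _)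
      (_ : b ≫ pullback.snd f _ = pullback.snd f _ ≫ Spec.map (CommRingCat.ofHom φ.toRingHom))
      (VB : FEt.Cat (pullback f (Spec.map (CommRingCat.ofHom (algebraMap A B))))),
      Nonempty ((FEt.restrict b).obj VB ≅ V) := by
  let D : (AlgColimH13.Idx A R)ᵒᵖ ⥤ Scheme.{u} := (AlgColimH13.ringDiag A R).op ⋙ Scheme.Spec
  let t : D ⟶ (Functor.const _).obj (Spec (CommRingCat.of A)) :=
    { app := fun i => Spec.map (AlgColimH13.str A R i.unop)
      naturality := fun i j a => by
        show Spec.map ((AlgColimH13.ringDiag A R).map a.unop) ≫ Spec.map (AlgColimH13.str A R j.unop) =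
          Spec.map (AlgColimH13.str A R i.unop) ≫ 𝟙 _
        rw [← Spec.map_comp, Category.comp_id, AlgColimH13.str_map] }
  let c₀ : Cone D := { pt := Spec (CommRingCat.of R)
                       π := { app := fun i => Spec.map (AlgColimH13.proj A R i.unop)
                              naturality := fun i j a => by
                                show 𝟙 _ ≫ Spec.map (AlgColimH13.proj A R j.unop) =
                                  Spec.map (AlgColimH13.proj A R i.unop) ≫ Spec.map ((AlgColimH13.ringDiag A R).map a.unop)
                                rw [Category.id_comp, ← Spec.map_comp, AlgColimH13.map_proj] } }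
  have hc₀ : IsLimit c₀ := (IsLimit.equivIsoLimit (Cone.ext (Iso.refl _) fun i => (Category.id_comp _).symm))
    (isLimitOfPreserves Scheme.Spec (AlgColimH13.ringIsColimit A R).op)
  haveI : ∀ i, IsAffineHom (t.app i) := fun i => inferInstanceAs (IsAffineHom (Spec.map (AlgColimH13.str A R i.unop)))
  have hq : ∀ i, c₀.π.app i ≫ t.app i = Spec.map (CommRingCat.ofHom (algebraMap A R)) := fun i => by
    show Spec.map _ ≫ Spec.map _ = _
    rw [← Spec.map_comp, AlgColimH13.str_proj]
  have hP := IsPullback.of_hasPullback f (Spec.map (CommRingCat.ofHom (algebraMap A R)))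
  let E := Descend.pbDiagram D t f
  let e := Descend.pbCone D t f c₀ hq hP
  have he : IsLimit e := Descend.pbIsLimit D t f c₀ hq hP hc₀
  haveI : ∀ (i j : (AlgColimH13.Idx A R)ᵒᵖ) (a : i ⟶ j), IsAffineHom (E.map a) := fun i j a =>
    MorphismProperty.of_isPullback (P := @IsAffineHom) (Descend.pbMap_isPullback D t f a).flip
      (isAffineHom_of_isAffine (Spec.map ((AlgColimH13.ringDiag A R).map a.unop)))
  haveI : ∀ i, CompactSpace (E.obj i) := fun i =>
    haveI : IsAffineHom (pullback.fst f (t.app i)) := MorphismProperty.pullback_fst _ _ inferInstance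
    QuasiCompact.compactSpace_of_compactSpace (pullback.fst f (t.app i))
  haveI : ∀ i, QuasiSeparatedSpace (E.obj i) := fun i =>
    haveI : IsAffineHom (pullback.fst f (t.app i)) := MorphismProperty.pullback_fst _ _ inferInstance
    quasiSeparatedSpace_of_quasiSeparated (pullback.fst f (t.app i))
  let p : V.left ⟶ e.pt := V.hom
  haveI : IsFinite p := V.prop.1
  haveI : Etale p := V.prop.2
  obtain ⟨i, Pi, pi, q, h1, h2, -, hsq⟩ := FEtLimit25.exists_model he p
  exact ⟨i.unop.Ring, inferInstance, inferInstance, inferInstance, i.unop.toB, e.π.app i,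
    Descend.pbCone_fst D t f c₀ hq hP i, Descend.pbCone_snd D t f c₀ hq hP i,
    MorphismProperty.Over.mk ⊤ pi ⟨h1, h2⟩,
    ⟨MorphismProperty.Over.isoMk hsq.isoPullback.symm hsq.isoPullback_inv_snd⟩⟩

end Groth.Agent.PiOne25
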