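import Groth.Agent.Lib.PiOne25.Complete
import Groth.Agent.Lib.PiOne25.Model
import Groth.Agent.Lib.Compl.Noetherian
import Groth.Agent.Lib.GRing6.Completion
import Groth.Agent.Lib.ArtinApproxH7.Core
import Groth.Agent.Lib.PureLift25.Iso
import Groth.Agent.S0597

/-!
Covers of the closed fibre lift over a henselian pair whose ring is a G-ring.
-/

set_option autoImplicit false
set_option linter.style.haveILetI false
set_option backward.isDefEq.respectTransparency false

universe u

open CategoryTheory CategoryTheory.Limits AlgebraicGeometry TopologicalSpace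

noncomputable section

namespace Groth.Agent.PiOne25

variable {A : Type u} [CommRing A] (I : Ideal A)

/-- Points of a finitely presented algebra in the completion are approximated in the ring. -/
theorem exists_algHom_approx [HenselianRing A I] (hG : CAlg.IsGRing A) {B : Type u} [CommRing B] [Algebra A B]
    [Algebra.FinitePresentation A B] (φ : B →ₐ[A] AdicCompletion I A) :
    ∃ g : B →ₐ[A] A, (AdicCompletion.evalOneₐ I).comp φ = (Algebra.ofId A (A ⧸ I)).comp g := by
  haveI := hG.1
  obtain ⟨n, π, hπ⟩ := Algebra.FiniteType.iff_quotient_mvPolynomial''.1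
    (inferInstance : Algebra.FiniteType A B)
  obtain ⟨m, F, hF⟩ := Submodule.fg_iff_exists_fin_generating_family.1
    (IsNoetherian.noetherian (RingHom.ker π.toRingHom))
  have hev : (MvPolynomial.aeval fun i => φ (π (MvPolynomial.X i))) = φ.comp π :=
    MvPolynomial.algHom_ext fun i => by simp
  obtain ⟨b, hb, hcong⟩ := Groth.Agent.S0597.result A I (GRing6.isRegularHom_adicCompletion A hG I) n m F
    (fun i => φ (π (MvPolynomial.X i))) (fun j => by
      rw [MvPolynomial.eval_map, ← MvPolynomial.aeval_def, hev, AlgHom.comp_apply,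
        show π (F j) = 0 from (show F j ∈ RingHom.ker π.toRingHom from hF ▸ Ideal.subset_span ⟨j, rfl⟩), map_zero]) 1
  have hker : RingHom.ker π ≤ RingHom.ker (MvPolynomial.aeval b : MvPolynomial (Fin n) A →ₐ[A] A) := by
    show RingHom.ker π.toRingHom ≤ _
    rw [← hF]
    refine Ideal.span_le.2 ?_
    rintro _ ⟨j, rfl⟩
    exact hb j
  refine ⟨AlgHom.liftOfSurjective π hπ (MvPolynomial.aeval b) hker, (AlgHom.cancel_right hπ).1 ?_⟩
  refine MvPolynomial.algHom_ext fun i => ?_
  rw [AlgHom.comp_apply, AlgHom.comp_apply, AlgHom.comp_apply, AlgHom.comp_apply, AlgHom.liftOfSurjective_apply,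
    MvPolynomial.aeval_X]
  have h1 := hcong i
  rw [pow_one, ← AdicCompletion.ker_evalOneₐ_eq_map I (IsNoetherian.noetherian I), RingHom.mem_ker, map_sub,
    sub_eq_zero] at h1
  exact h1.trans (AlgHom.commutes _ _)

/-- Finite étale covers of the closed fibre lift. -/
theorem exists_lift_gRing [HenselianRing A I] (hG : CAlg.IsGRing A) {X : Scheme.{u}}
    (f : X ⟶ Spec (CommRingCat.of A)) [IsProper f]
    (V₀ : FEt.Cat (pullback f (Spec.map (CommRingCat.ofHom (Ideal.Quotient.mk I))))) :
    ∃ V : FEt.Cat X,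
      Nonempty ((FEt.restrict (pullback.fst f (Spec.map (CommRingCat.ofHom (Ideal.Quotient.mk I))))).obj V ≅ V₀) := by
  haveI := hG.1
  have hI : I.FG := IsNoetherian.noetherian I
  let C := AdicCompletion I A
  let J : Ideal C := I.map (algebraMap A C)
  haveI : IsNoetherianRing C := Compl.isNoetherianRing_adicCompletion I hI
  haveI : IsAdicComplete J C := AdicCompletion.isAdicComplete_self I hI
  let qI := Spec.map (CommRingCat.ofHom (Ideal.Quotient.mk I))
  let qC := Spec.map (CommRingCat.ofHom (algebraMap A C))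
  let ε : C →ₐ[A] A ⧸ I := AdicCompletion.evalOneₐ I
  let sε := Spec.map (CommRingCat.ofHom ε.toRingHom)
  have hsε : sε ≫ qC = qI := by
    rw [← Spec.map_comp]
    exact congrArg Spec.map (CommRingCat.hom_ext (RingHom.ext fun a => ε.commutes a))
  let fC := pullback.snd f qC
  let l : pullback f qI ⟶ pullback f qC := pullback.lift (pullback.fst f qI) (pullback.snd f qI ≫ sε)
    (by rw [Category.assoc, hsε]; exact pullback.condition)
  have hl : IsPullback l (pullback.snd f qI) fC sε :=
    IsPullback.of_right (h₁₂ := pullback.fst f qC) (h₂₂ := qC) (v₁₃ := f)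
      (by rw [pullback.lift_fst, hsε]; exact IsPullback.of_hasPullback _ _)
      (pullback.lift_snd _ _ _) (IsPullback.of_hasPullback _ _)
  have hk : J ^ (0 + 1) = RingHom.ker ε.toRingHom := by
    rw [pow_one]
    exact (AdicCompletion.ker_evalOneₐ_eq_map I hI).symm
  let φ : (C ⧸ J ^ (0 + 1)) ≃+* A ⧸ I :=
    (Ideal.quotEquivOfEq hk).trans (RingHom.quotientKerEquivOfSurjective (f := ε.toRingHom) (AdicCompletion.evalOneₐ_surjective I))
  let sφ := Spec.map φ.toCommRingCatIso.hom
  have hsφ : sφ ≫ CohB1.specQuot J 0 = sε := by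
    rw [CohB1.specQuot, ← Spec.map_comp]
    rfl
  let k : pullback f qI ⟶ CohB1.thick fC J 0 := pullback.lift l (pullback.snd f qI ≫ sφ)
    (by rw [Category.assoc, hsφ]; exact hl.w)
  have hk' : IsPullback k (pullback.snd f qI) (CohB1.thickToBase fC J 0) sφ :=
    IsPullback.of_right (h₁₂ := CohB1.thickι fC J 0) (h₂₂ := CohB1.specQuot J 0) (v₁₃ := fC)
      (by rw [pullback.lift_fst, hsφ]; exact hl) (pullback.lift_snd _ _ _) (IsPullback.of_hasPullback _ _)
  haveI : IsIso k := MorphismProperty.of_isPullback (P := MorphismProperty.isomorphisms _) hk'.flip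
    (inferInstanceAs (IsIso sφ))
  haveI := PureLift25.isEquivalence_restrict_of_isIso k
  obtain ⟨V₁, ⟨e₁⟩⟩ := Functor.EssSurj.mem_essImage (FEt.restrict k) V₀
  obtain ⟨VC, ⟨eC⟩⟩ := exists_lift_complete J fC V₁
  haveI : CompactSpace ↥X := QuasiCompact.compactSpace_of_compactSpace f
  haveI : QuasiSeparatedSpace ↥X := quasiSeparatedSpace_of_quasiSeparated f
  obtain ⟨B, _, _, _, ψ, b, hb1, hb2, VB, ⟨eB⟩⟩ := exists_model_alg A C f VC
  obtain ⟨g, hg⟩ := exists_algHom_approx I hG ψ
  let qB := Spec.map (CommRingCat.ofHom (algebraMap A B))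
  let sg : X ⟶ pullback f qB := pullback.lift (𝟙 X) (f ≫ Spec.map (CommRingCat.ofHom g.toRingHom)) (by
    rw [Category.id_comp, Category.assoc, ← Spec.map_comp]
    have : CommRingCat.ofHom (algebraMap A B) ≫ CommRingCat.ofHom g.toRingHom = 𝟙 _ :=
      CommRingCat.hom_ext (RingHom.ext fun a => g.commutes a)
    rw [this, Spec.map_id, Category.comp_id])
  have key : pullback.fst f qI ≫ sg = (k ≫ CohB1.thickι fC J 0) ≫ b := by
    rw [pullback.lift_fst]
    refine pullback.hom_ext ?_ ?_
    · rw [Category.assoc, Category.assoc, pullback.lift_fst, hb1, pullback.lift_fst, Category.comp_id]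
    · rw [Category.assoc, Category.assoc, pullback.lift_snd, hb2, pullback.lift_snd_assoc, Category.assoc,
        ← Category.assoc, pullback.condition, Category.assoc, ← Spec.map_comp, ← Spec.map_comp]
      refine congrArg (pullback.snd f qI ≫ ·) (congrArg Spec.map (CommRingCat.hom_ext (RingHom.ext fun x => ?_)))
      exact (AlgHom.congr_fun hg x).symm
  refine ⟨(FEt.restrict sg).obj VB, ⟨(Pur25.restrictComp (pullback.fst f qI) sg).symm.app VB ≪≫
    (MorphismProperty.Over.pullbackCongr key).app VB ≪≫ (Pur25.restrictComp (k ≫ CohB1.thickι fC J 0) b).app VB ≪≫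
    (FEt.restrict (k ≫ CohB1.thickι fC J 0)).mapIso eB ≪≫ (Pur25.restrictComp k (CohB1.thickι fC J 0)).app VC ≪≫
    (FEt.restrict k).mapIso eC ≪≫ e₁⟩⟩

end Groth.Agent.PiOne25
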