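import Groth.Agent.Lib.LimH13.ProperModel
import Groth.Agent.Lib.Descend.Basic

/-!
A proper morphism is a limit of proper morphisms over an initial system of the base.
-/

universe u

open CategoryTheory Limits AlgebraicGeometry Opposite TopologicalSpace Groth.Agent.LimH13

set_option backward.isDefEq.respectTransparency false
set_option backward.isDefEq.respectTransparency.types false
set_option linter.style.haveILetI false

noncomputable section

namespace Groth.Agent.PiOne25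

/-- A proper morphism is a limit of proper morphisms, the index system mapping initially to that of the base. -/
theorem exists_proper_system {I : Type u} [SmallCategory I] [IsCofiltered I] (D : I ⥤ Scheme.{u})
    (c : Cone D) (hc : IsLimit c) [∀ {i j} (a : i ⟶ j), IsAffineHom (D.map a)] [∀ i, CompactSpace (D.obj i)]
    [∀ i, QuasiSeparatedSpace (D.obj i)] [CompactSpace c.pt] [QuasiSeparatedSpace c.pt]
    {X : Scheme.{u}} (f : X ⟶ c.pt) [IsProper f] :
    ∃ (J : Type u) (_ : SmallCategory J) (_ : IsCofiltered J) (F : J ⥤ I) (_ : F.Initial) (DX : J ⥤ Scheme.{u})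
      (φ : DX ⟶ F ⋙ D) (cX : Cone DX) (_ : IsLimit cX) (_ : IsLimit (c.whisker F)) (eX : cX.pt ≅ X),
      (∀ (k l : J) (a : k ⟶ l), IsAffineHom (DX.map a)) ∧ (∀ k, IsProper (φ.app k)) ∧
      ∀ k, cX.π.app k ≫ φ.app k = eX.hom ≫ f ≫ c.π.app (F.obj k) := by
  obtain ⟨J₀, _, _, D₀, c₀, hc₀, e₀, -, h₀⟩ := Groth.Agent.S2079.result f
  obtain ⟨k₀⟩ := IsCofiltered.nonempty (C := J₀)
  obtain ⟨hcl, hprop, hfp⟩ := h₀ k₀
  haveI := hprop
  haveI := hfp
  haveI : CompactSpace (D₀.obj k₀).left := QuasiCompact.compactSpace_of_compactSpace (D₀.obj k₀).hom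
  haveI : QuasiSeparatedSpace (D₀.obj k₀).left := quasiSeparatedSpace_of_quasiSeparated (D₀.obj k₀).hom
  let jX : X ⟶ (D₀.obj k₀).left := e₀.inv.left ≫ (c₀.π.app k₀).left
  haveI : IsIso e₀.inv.left := inferInstanceAs (IsIso ((Over.forget _).mapIso e₀).inv)
  haveI : IsClosedImmersion jX := inferInstanceAs (IsClosedImmersion (e₀.inv.left ≫ _))
  have hjX : jX ≫ (D₀.obj k₀).hom = f := by
    rw [Category.assoc, Over.w (c₀.π.app k₀)]
    exact Over.w e₀.inv
  obtain ⟨i, P, p, q, hp, hPc, hPq, hP⟩ := hasModel_of_finitePresentation hc (D₀.obj k₀).hom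
  haveI := hp
  haveI := hPc
  haveI := hPq
  haveI : ∀ (a b : I) (h : a ⟶ b), IsAffineHom (D.map h) := fun _ _ h => inferInstance
  obtain ⟨i₁, φ, Xi, Yi, fi, gi, pY, pX, hY', hX', hfi⟩ :=
    Groth.Agent.S2074.result D c hc i p (𝟙 (D.obj i)) (D₀.obj k₀).hom (𝟙 c.pt) (c.π.app i) q
      (IsPullback.of_vert_isIso ⟨by simp⟩) hP
  haveI := hfi
  haveI : IsIso gi := hY'.isIso_snd_of_isIso
  haveI : IsProper (fi ≫ gi) := inferInstance
  have hP₁ : IsPullback pX (fi ≫ gi) p (D.map φ) := by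
    have h := hX'.paste_vert hY'
    rwa [Category.comp_id] at h
  have hw : q ≫ p = ((D₀.obj k₀).hom ≫ c.π.app i₁) ≫ D.map φ := by
    rw [Category.assoc, c.w]; exact hP.w
  let q₁ : (D₀.obj k₀).left ⟶ Xi := hP₁.lift q ((D₀.obj k₀).hom ≫ c.π.app i₁) hw
  have hq₁ : IsPullback q₁ (D₀.obj k₀).hom (fi ≫ gi) (c.π.app i₁) := by
    refine IsPullback.of_right ?_ (hP₁.lift_snd _ _ hw) hP₁
    rw [hP₁.lift_fst, c.w]
    exact hP
  let F := Over.forget i₁
  let t := Descend.overT D i₁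
  let E := Descend.pbDiagram (F ⋙ D) t (fi ≫ gi)
  have hc' : IsLimit (c.whisker F) := (Functor.Initial.isLimitWhiskerEquiv F c).symm hc
  have hq : ∀ k, (c.whisker F).π.app k ≫ t.app k = c.π.app i₁ := fun k => c.w k.hom
  let e := Descend.pbCone (F ⋙ D) t (fi ≫ gi) (c.whisker F) hq hq₁
  have he : IsLimit e := Descend.pbIsLimit (F ⋙ D) t (fi ≫ gi) (c.whisker F) hq hq₁ hc'
  haveI : ∀ {k l : Over i₁} (a : k ⟶ l), IsAffineHom (E.map a) := fun a =>
    inferInstanceAs (IsAffineHom ((Descend.pbDiagram (F ⋙ D) t (fi ≫ gi)).map a))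
  haveI : QuasiSeparatedSpace e.pt := inferInstanceAs (QuasiSeparatedSpace (D₀.obj k₀).left)
  haveI : IsClosedImmersion (jX : X ⟶ e.pt) := ‹IsClosedImmersion jX›
  let φ' : Img.diag E e jX ⟶ F ⋙ D := Img.ι E e jX ≫ Descend.pbSnd (F ⋙ D) t (fi ≫ gi)
  refine ⟨Over i₁, inferInstance, inferInstance, F, inferInstance, Img.diag E e jX, φ', Img.cone E e jX,
    Img.isLimit E e jX he (Over.mk (𝟙 i₁)), hc', Iso.refl _,
    fun k l a => Img.isAffineHom_map E e jX a, fun k => ?_, fun k => ?_⟩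
  · change IsProper ((Img.stage E e jX k).subschemeι ≫ pullback.snd (fi ≫ gi) (t.app k))
    haveI : IsProper (pullback.snd (fi ≫ gi) (t.app k)) := MorphismProperty.pullback_snd _ _ inferInstance
    infer_instance
  · change (jX ≫ e.π.app k).toImage ≫ (jX ≫ e.π.app k).imageι ≫ pullback.snd (fi ≫ gi) (t.app k) =
      𝟙 X ≫ f ≫ c.π.app k.left
    rw [Scheme.Hom.toImage_imageι_assoc, Category.assoc, Descend.pbCone_snd, reassoc_of% hjX, Category.id_comp]
    rfl

end Groth.Agent.PiOne25
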