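import Groth.Agent.Lib.PiOne25.Approx
import Groth.Agent.Lib.PiOne25.GRingPair
import Groth.Agent.Lib.PiOne25.ProperSys
import Groth.Agent.Lib.HensConn25.ClosedFibre

/-!
Restriction of finite étale covers of a proper scheme over a henselian pair to the closed fibre is an equivalence.
-/

set_option autoImplicit false
set_option linter.style.haveILetI false
set_option backward.isDefEq.respectTransparency false

universe u

open CategoryTheory CategoryTheory.Limits AlgebraicGeometry TopologicalSpace Opposite

noncomputable section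

namespace Groth.Agent.PiOne25

/-- Finite étale covers of the closed fibre lift, for any henselian pair. -/
theorem exists_lift_pair (A : Type u) [CommRing A] (I : Ideal A) [HenselianRing A I] {X : Scheme.{u}}
    (f : X ⟶ Spec (CommRingCat.of A)) [IsProper f]
    (V₀ : FEt.Cat (pullback f (Spec.map (CommRingCat.ofHom (Ideal.Quotient.mk I))))) :
    ∃ V : FEt.Cat X,
      Nonempty ((FEt.restrict (pullback.fst f (Spec.map (CommRingCat.ofHom (Ideal.Quotient.mk I))))).obj V ≅ V₀) := by
  classical
  obtain ⟨S, J, hm, hmem, hS, hJI, hIJ, hJJ⟩ := exists_subring_pairs A I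
  let R : Finset A ⥤ CommRingCat.{u} :=
    { obj := fun s => CommRingCat.of (S s)
      map := fun {s t} h => CommRingCat.ofHom (Subring.inclusion (hm (leOfHom h)))
      map_id := fun _ => rfl
      map_comp := fun _ _ => rfl }
  let tr : ∀ {s t : Finset A}, s ≤ t → (↥(S s) ⧸ J s →+* ↥(S t) ⧸ J t) := fun {s t} h =>
    Ideal.quotientMap (J t) (Subring.inclusion (hm h)) fun x hx => hJJ s t (hm h) x h hx
  let R' : Finset A ⥤ CommRingCat.{u} :=
    { obj := fun s => CommRingCat.of (↥(S s) ⧸ J s)
      map := fun {s t} h => CommRingCat.ofHom (tr (leOfHom h))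
      map_id := fun s => CommRingCat.hom_ext (Ideal.Quotient.ringHom_ext (RingHom.ext fun x => rfl))
      map_comp := fun _ _ => CommRingCat.hom_ext (Ideal.Quotient.ringHom_ext (RingHom.ext fun x => rfl)) }
  let cA : Cocone R := Cocone.mk (CommRingCat.of A)
    { app := fun s => CommRingCat.ofHom (S s).subtype
      naturality := fun _ _ _ => rfl }
  let cQ : Cocone R' := Cocone.mk (CommRingCat.of (A ⧸ I))
    { app := fun s => CommRingCat.ofHom (Ideal.quotientMap I (S s).subtype fun x hx => hJI s x hx)
      naturality := fun _ _ _ => CommRingCat.hom_ext (Ideal.Quotient.ringHom_ext (RingHom.ext fun x => rfl)) }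
  have hcA : IsColimit cA := ringIsColimitOfExists cA (fun a => ⟨{a}, ⟨a, hmem a⟩, rfl⟩)
    fun i y y' h => ⟨i, 𝟙 i, by rw [show y = y' from Subtype.ext h]⟩
  have hcQ : IsColimit cQ := by
    refine ringIsColimitOfExists cQ (fun a => ?_) fun i y y' h => ?_
    · obtain ⟨a, rfl⟩ := Ideal.Quotient.mk_surjective a
      exact ⟨{a}, Ideal.Quotient.mk _ ⟨a, hmem a⟩, rfl⟩
    · obtain ⟨x, rfl⟩ := Ideal.Quotient.mk_surjective y
      obtain ⟨x', rfl⟩ := Ideal.Quotient.mk_surjective y'
      have hd : ((x : A) - x') ∈ I := Ideal.Quotient.eq.1 h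
      obtain ⟨ha, haJ⟩ := hIJ _ hd
      let j := i ∪ {(x : A) - x'}
      refine ⟨j, homOfLE Finset.subset_union_left, Ideal.Quotient.eq.2 ?_⟩
      exact hJJ {(x : A) - x'} j (hm Finset.subset_union_right) ⟨_, ha⟩ Finset.subset_union_right haJ
  let D := R.op ⋙ Scheme.Spec
  let D' := R'.op ⋙ Scheme.Spec
  let q : D' ⟶ D :=
    { app := fun k => Spec.map (CommRingCat.ofHom (Ideal.Quotient.mk (J k.unop)))
      naturality := fun k l a => by
        show Spec.map (R'.map a.unop) ≫ Spec.map _ = Spec.map _ ≫ Spec.map (R.map a.unop)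
        rw [← Spec.map_comp, ← Spec.map_comp]
        rfl }
  let c : Cone D := { pt := Spec (CommRingCat.of A)
                      π := { app := fun k => Spec.map (cA.ι.app k.unop)
                             naturality := fun k l a => by
                               show 𝟙 _ ≫ Spec.map (cA.ι.app l.unop) = Spec.map (cA.ι.app k.unop) ≫ Spec.map (R.map a.unop)
                               rw [Category.id_comp, ← Spec.map_comp, cA.w] } }
  let c' : Cone D' := { pt := Spec (CommRingCat.of (A ⧸ I))
                        π := { app := fun k => Spec.map (cQ.ι.app k.unop)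
                               naturality := fun k l a => by
                                 show 𝟙 _ ≫ Spec.map (cQ.ι.app l.unop) = Spec.map (cQ.ι.app k.unop) ≫ Spec.map (R'.map a.unop)
                                 rw [Category.id_comp, ← Spec.map_comp, cQ.w] } }
  have hc : IsLimit c := (IsLimit.equivIsoLimit (Cone.ext (Iso.refl _) fun i => (Category.id_comp _).symm))
    (isLimitOfPreserves Scheme.Spec hcA.op)
  have hc' : IsLimit c' := (IsLimit.equivIsoLimit (Cone.ext (Iso.refl _) fun i => (Category.id_comp _).symm))
    (isLimitOfPreserves Scheme.Spec hcQ.op)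
  let qI := Spec.map (CommRingCat.ofHom (Ideal.Quotient.mk I))
  have hqI : ∀ k, c'.π.app k ≫ q.app k = qI ≫ c.π.app k := fun k => by
    show Spec.map _ ≫ Spec.map _ = Spec.map _ ≫ Spec.map _
    rw [← Spec.map_comp, ← Spec.map_comp]
    rfl
  haveI : ∀ {i j : (Finset A)ᵒᵖ} (a : i ⟶ j), IsAffineHom (D.map a) := fun a =>
    isAffineHom_of_isAffine (Spec.map (R.map a.unop))
  haveI : ∀ i, CompactSpace (D.obj i) := fun i => inferInstanceAs (CompactSpace (Spec (R.obj i.unop)))
  haveI : ∀ i, QuasiSeparatedSpace (D.obj i) := fun i => inferInstanceAs (QuasiSeparatedSpace (Spec (R.obj i.unop)))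
  obtain ⟨K, _, _, F, _, DX, φ, cX, hcX, hcF, eX, haff, hprop, hcomm⟩ := exists_proper_system D c hc f
  have hcF' : IsLimit (c'.whisker F) := (Functor.Initial.isLimitWhiskerEquiv F c').symm hc'
  haveI : ∀ k, IsClosedImmersion (q.app k) := fun k =>
    IsClosedImmersion.spec_of_surjective _ Ideal.Quotient.mk_surjective
  let E : K ⥤ Scheme.{u} :=
    { obj := fun k => pullback (φ.app k) (q.app (F.obj k))
      map := fun {k l} a => pullback.map _ _ _ _ (DX.map a) (D'.map (F.map a)) (D.map (F.map a))
        (φ.naturality a).symm (q.naturality (F.map a)).symm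
      map_id := fun k => by apply pullback.hom_ext <;> simp
      map_comp := fun a b => by apply pullback.hom_ext <;> simp }
  haveI : ∀ (k l : K) (a : k ⟶ l), IsAffineHom (E.map a) := fun k l a => by
    haveI := haff k l a
    haveI : IsAffineHom (pullback.fst (φ.app k) (q.app (F.obj k))) := inferInstance
    haveI : IsAffineHom (E.map a ≫ pullback.fst (φ.app l) (q.app (F.obj l))) := by
      rw [show E.map a ≫ pullback.fst (φ.app l) (q.app (F.obj l)) = pullback.fst _ _ ≫ DX.map a from
        pullback.lift_fst _ _ _]
      infer_instance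
    exact MorphismProperty.of_postcomp (W := @IsAffineHom) (W' := @IsSeparated) (E.map a)
      (pullback.fst (φ.app l) (q.app (F.obj l))) inferInstance this
  haveI : ∀ k, CompactSpace (E.obj k) := fun k => by
    haveI := hprop k
    haveI : CompactSpace ((F ⋙ D).obj k) := inferInstanceAs (CompactSpace (D.obj (F.obj k)))
    haveI : CompactSpace (DX.obj k) := QuasiCompact.compactSpace_of_compactSpace (φ.app k)
    exact QuasiCompact.compactSpace_of_compactSpace (pullback.fst (φ.app k) (q.app (F.obj k)))
  haveI : ∀ k, QuasiSeparatedSpace (E.obj k) := fun k => by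
    haveI := hprop k
    haveI : QuasiSeparatedSpace ((F ⋙ D).obj k) := inferInstanceAs (QuasiSeparatedSpace (D.obj (F.obj k)))
    haveI : QuasiSeparatedSpace (DX.obj k) := quasiSeparatedSpace_of_quasiSeparated (φ.app k)
    exact quasiSeparatedSpace_of_quasiSeparated (pullback.fst (φ.app k) (q.app (F.obj k)))
  have hw : ∀ k, (pullback.fst f qI ≫ eX.inv ≫ cX.π.app k) ≫ φ.app k =
      (pullback.snd f qI ≫ c'.π.app (F.obj k)) ≫ q.app (F.obj k) := fun k => by
    rw [Category.assoc, Category.assoc, hcomm, eX.inv_hom_id_assoc, Category.assoc, hqI,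
      pullback.condition_assoc]
  let e : Cone E :=
    { pt := pullback f qI
      π :=
        { app := fun k => pullback.lift _ _ (hw k)
          naturality := fun k l a => by
            apply pullback.hom_ext
            · simp [E, cX.w a]
            · simp [E, c'.w (F.map a)] } }
  let liftE : ∀ s : Cone E, s.pt ⟶ pullback f qI := fun s =>
    pullback.lift
      (hcX.lift (Cone.mk s.pt
        { app := fun k => s.π.app k ≫ pullback.fst _ _
          naturality := fun k l a => by
            dsimp
            rw [Category.id_comp, ← s.w a, Category.assoc, Category.assoc,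
              show E.map a ≫ pullback.fst _ _ = pullback.fst _ _ ≫ DX.map a from pullback.lift_fst _ _ _] }) ≫ eX.hom)
      (hcF'.lift (Cone.mk s.pt
        { app := fun k => s.π.app k ≫ pullback.snd _ _
          naturality := fun k l a => by
            dsimp
            rw [Category.id_comp, ← s.w a, Category.assoc, Category.assoc,
              show E.map a ≫ pullback.snd _ _ = pullback.snd _ _ ≫ D'.map (F.map a) from pullback.lift_snd _ _ _] }))
      (by
        refine hcF.hom_ext fun k => ?_
        show (_ ≫ f) ≫ c.π.app (F.obj k) = (_ ≫ qI) ≫ c.π.app (F.obj k)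
        rw [Category.assoc, Category.assoc, Category.assoc, ← hcomm, hcX.fac_assoc, ← hqI]
        rw [show c'.π.app (F.obj k) = (c'.whisker F).π.app k from rfl, hcF'.fac_assoc]
        show (s.π.app k ≫ pullback.fst _ _) ≫ φ.app k = (s.π.app k ≫ pullback.snd _ _) ≫ q.app (F.obj k)
        rw [Category.assoc, Category.assoc, pullback.condition])
  have he : IsLimit e :=
    { lift := liftE
      fac := fun s k => by
        apply pullback.hom_ext
        · simp [e, liftE]
        · simp only [e, liftE, Category.assoc, pullback.lift_snd, pullback.lift_snd_assoc]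
          exact hcF'.fac _ k
      uniq := fun s m hm => by
        apply pullback.hom_ext
        · rw [pullback.lift_fst, ← cancel_mono eX.inv, Category.assoc _ eX.hom, Iso.hom_inv_id, Category.comp_id]
          refine hcX.hom_ext fun k => ?_
          rw [hcX.fac]
          show _ = s.π.app k ≫ pullback.fst _ _
          rw [← hm k]
          simp [e]
        · rw [pullback.lift_snd]
          refine hcF'.hom_ext fun k => ?_
          rw [hcF'.fac]
          show _ = s.π.app k ≫ pullback.snd _ _
          rw [← hm k]
          simp [e] }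
  let p : V₀.left ⟶ e.pt := V₀.hom
  haveI : IsFinite p := V₀.prop.1
  haveI : Etale p := V₀.prop.2
  obtain ⟨k, Pk, pk, g, h1, h2, -, hsq⟩ := FEtLimit25.exists_model he p
  let s := (F.obj k).unop
  haveI : HenselianRing (S s) (J s) := (hS s).1
  haveI := hprop k
  let Vk : FEt.Cat (pullback (φ.app k) (Spec.map (CommRingCat.ofHom (Ideal.Quotient.mk (J s))))) :=
    MorphismProperty.Over.mk ⊤ pk ⟨h1, h2⟩
  obtain ⟨W, ⟨eW⟩⟩ := exists_lift_gRing (J s) (hS s).2 (φ.app k) Vk
  have key : pullback.fst f qI ≫ eX.inv ≫ cX.π.app k = e.π.app k ≫ pullback.fst (φ.app k) (q.app (F.obj k)) :=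
    (pullback.lift_fst _ _ _).symm
  exact ⟨(FEt.restrict (eX.inv ≫ cX.π.app k)).obj W,
    ⟨(Pur25.restrictComp (pullback.fst f qI) (eX.inv ≫ cX.π.app k)).symm.app W ≪≫
      (MorphismProperty.Over.pullbackCongr key).app W ≪≫
      (Pur25.restrictComp (e.π.app k) (pullback.fst (φ.app k) (q.app (F.obj k)))).app W ≪≫
      (FEt.restrict (e.π.app k)).mapIso eW ≪≫
      MorphismProperty.Over.isoMk hsq.isoPullback.symm hsq.isoPullback_inv_snd⟩⟩

/-- Restriction to the closed fibre over a henselian pair is an equivalence. -/
theorem isEquivalence_closedFibre (A : Type u) [CommRing A] (I : Ideal A) [HenselianRing A I] {X : Scheme.{u}}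
    (f : X ⟶ Spec (CommRingCat.of A)) [IsProper f] :
    (FEt.restrict (pullback.fst f (Spec.map (CommRingCat.ofHom (Ideal.Quotient.mk I))))).IsEquivalence := by
  obtain ⟨hfull, hfaith⟩ := HensConn25.fullyFaithful_closedFibre A I f
  exact
    { full := hfull, faithful := hfaith
      essSurj := ⟨fun V₀ => exists_lift_pair A I f V₀⟩ }

end Groth.Agent.PiOne25
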