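import Groth.Agent.Lib.PiOne25.EtaleThick
import Groth.Agent.Lib.Algz25.Finite
import Groth.Agent.S0238
import Groth.Agent.S0041

/-!
Finite étale covers of the closed fibre of a proper scheme over a complete Noetherian ring lift.
-/

set_option autoImplicit false
set_option linter.style.haveILetI false
set_option backward.isDefEq.respectTransparency false

universe u

open CategoryTheory CategoryTheory.Limits AlgebraicGeometry TopologicalSpace

noncomputable section

namespace Groth.Agent.PiOne25

variable {A : Type u} [CommRing A] (I : Ideal A) {X : Scheme.{u}} (f : X ⟶ Spec (CommRingCat.of A))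

theorem thickTrans_ι (n : ℕ) : CohB1.thickTrans f I n ≫ CohB1.thickι f I (n + 1) = CohB1.thickι f I n :=
  (pullback.lift_fst _ _ _).trans (Category.comp_id _)

theorem isPullback_thickTrans (n : ℕ) : IsPullback (CohB1.thickTrans f I n) (CohB1.thickToBase f I n)
    (CohB1.thickToBase f I (n + 1)) (CohB1.specQuotTrans I n) :=
  IsPullback.of_right (h₁₂ := CohB1.thickι f I (n + 1)) (h₂₂ := CohB1.specQuot I (n + 1)) (v₁₃ := f)
    (by rw [thickTrans_ι, CohB1.specQuotTrans_specQuot]; exact IsPullback.of_hasPullback _ _)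
    (pullback.lift_snd _ _ _) (IsPullback.of_hasPullback _ _)

instance isClosedImmersion_specQuotTrans (n : ℕ) : IsClosedImmersion (CohB1.specQuotTrans I n) :=
  IsClosedImmersion.spec_of_surjective _ (Ideal.Quotient.factor_surjective (Ideal.pow_le_pow_right (Nat.le_succ (n + 1))))

instance surjective_specQuotTrans (n : ℕ) : Surjective (CohB1.specQuotTrans I n) := by
  refine ⟨fun p => ?_⟩
  let φ := Ideal.Quotient.factor (Ideal.pow_le_pow_right (I := I) (Nat.le_succ (n + 1)))
  have hsurj : Function.Surjective φ := Ideal.Quotient.factor_surjective (Ideal.pow_le_pow_right (Nat.le_succ (n + 1)))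
  have hp : p ∈ PrimeSpectrum.zeroLocus (RingHom.ker φ : Set (A ⧸ I ^ (n + 1 + 1))) := by
    intro x hx
    obtain ⟨a, rfl⟩ := Ideal.Quotient.mk_surjective x
    have ha : a ∈ I ^ (n + 1) := Ideal.Quotient.eq_zero_iff_mem.1 hx
    refine (PrimeSpectrum.isPrime p).mem_of_pow_mem 2 ?_
    rw [pow_two, ← map_mul, Ideal.Quotient.eq_zero_iff_mem.2 (Ideal.pow_le_pow_right (by omega)
      ((pow_add I (n + 1) (n + 1)).symm ▸ Ideal.mul_mem_mul ha ha : a * a ∈ I ^ (n + 1 + (n + 1))))]
    exact zero_mem _
  rw [← _root_.range_comap_of_surjective _ φ hsurj] at hp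
  exact hp

instance isClosedImmersion_thickTrans (n : ℕ) : IsClosedImmersion (CohB1.thickTrans f I n) :=
  MorphismProperty.of_isPullback (isPullback_thickTrans I f n).flip inferInstance

instance surjective_thickTrans (n : ℕ) : Surjective (CohB1.thickTrans f I n) :=
  MorphismProperty.of_isPullback (isPullback_thickTrans I f n).flip inferInstance

variable (V₀ : FEt.Cat (CohB1.thick f I 0))

/-- The covers of the thickenings lifting a cover of the closed fibre. -/
def tower : ∀ n, FEt.Cat (CohB1.thick f I n)
  | 0 => V₀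
  | n + 1 =>
    haveI := Groth.Agent.S0238.result (CohB1.thickTrans f I n)
    (Functor.EssSurj.mem_essImage (FEt.restrict (CohB1.thickTrans f I n)) (tower n)).choose

/-- The comparison isomorphisms. -/
def towerIso (n : ℕ) : (FEt.restrict (CohB1.thickTrans f I n)).obj (tower I f V₀ (n + 1)) ≅ tower I f V₀ n :=
  haveI := Groth.Agent.S0238.result (CohB1.thickTrans f I n)
  (Functor.EssSurj.mem_essImage (FEt.restrict (CohB1.thickTrans f I n)) (tower I f V₀ n)).choose_spec.some

/-- The transition maps of the covers. -/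
def towerMap (n : ℕ) : (tower I f V₀ n).left ⟶ (tower I f V₀ (n + 1)).left :=
  (towerIso I f V₀ n).inv.left ≫ pullback.fst (tower I f V₀ (n + 1)).hom (CohB1.thickTrans f I n)

theorem isPullback_towerMap (n : ℕ) : IsPullback (towerMap I f V₀ n) (tower I f V₀ n).hom
    (tower I f V₀ (n + 1)).hom (CohB1.thickTrans f I n) := by
  refine (IsPullback.of_hasPullback (tower I f V₀ (n + 1)).hom (CohB1.thickTrans f I n)).of_iso
    ((MorphismProperty.Over.forget _ _ _ ⋙ Over.forget _).mapIso (towerIso I f V₀ n)) (Iso.refl _) (Iso.refl _) (Iso.refl _) ?_ ?_ ?_ ?_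
  · show pullback.fst _ _ ≫ 𝟙 _ = (towerIso I f V₀ n).hom.left ≫ towerMap I f V₀ n
    rw [Category.comp_id, towerMap, ← Category.assoc]
    rw [show (towerIso I f V₀ n).hom.left ≫ (towerIso I f V₀ n).inv.left = 𝟙 _ from
      congrArg (fun g => g.left) (towerIso I f V₀ n).hom_inv_id]
    exact (Category.id_comp _).symm
  · show pullback.snd _ _ ≫ 𝟙 _ = (towerIso I f V₀ n).hom.left ≫ (tower I f V₀ n).hom
    rw [Category.comp_id]
    exact (Over.w ((MorphismProperty.Over.forget _ _ _).map (towerIso I f V₀ n).hom)).symm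
  · simp
  · simp

/-- Finite étale covers of the closed fibre lift. -/
theorem exists_lift_complete [IsNoetherianRing A] [IsAdicComplete I A] [IsProper f] :
    ∃ V : FEt.Cat X, Nonempty ((FEt.restrict (CohB1.thickι f I 0)).obj V ≅ V₀) := by
  haveI : ∀ n, IsFinite (tower I f V₀ n).hom := fun n => (tower I f V₀ n).prop.1
  obtain ⟨W, i, w, hi, -, hwt, hpb⟩ := Groth.Agent.S0041.result A I f (fun n => (tower I f V₀ n).left)
    (fun n => (tower I f V₀ n).hom) (towerMap I f V₀) (fun n => inferInstance) (isPullback_towerMap I f V₀)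
    (by infer_instance)
  haveI := hi
  haveI : Etale i := etale_of_etale_thick f i (IsAdicComplete.le_jacobson_bot I) fun n => by
    haveI : Etale (tower I f V₀ n).hom := (tower I f V₀ n).prop.2
    rw [← (hpb n).isoPullback_inv_snd]
    infer_instance
  refine ⟨MorphismProperty.Over.mk ⊤ i ⟨inferInstance, inferInstance⟩, ⟨?_⟩⟩
  exact (MorphismProperty.Over.isoMk (hpb 0).isoPullback (hpb 0).isoPullback_hom_snd).symm

end Groth.Agent.PiOne25
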