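import Groth.Agent.Lib.HensColimH7.GRings
import Groth.Agent.Lib.Hens.PairColim
import Groth.Agent.Lib.Hens.Pair
import Groth.Agent.Lib.GRing6.PairHens7
import Mathlib.Algebra.Category.Ring.FilteredColimits
import Mathlib.CategoryTheory.Limits.Types.Filtered

/-!
A henselian pair is the union of henselian pairs on G-rings.
-/

set_option autoImplicit false
set_option linter.style.haveILetI false

universe u

open CategoryTheory CategoryTheory.Limits

namespace Groth.Agent.PiOne25

/-- A surjective cocone of rings which detects equalities eventually is a colimit. -/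
noncomputable def ringIsColimitOfExists {J : Type u} [SmallCategory J] [IsFiltered J] {F : J ⥤ CommRingCat.{u}}
    (c : Cocone F) (h1 : ∀ x : c.pt, ∃ i y, c.ι.app i y = x)
    (h2 : ∀ (i : J) (y y' : F.obj i), c.ι.app i y = c.ι.app i y' → ∃ (j : J) (f : i ⟶ j), F.map f y = F.map f y') :
    IsColimit c :=
  haveI : ReflectsColimitsOfShape J (forget CommRingCat.{u}) := reflectsColimitsOfShape_of_reflectsIsomorphisms
  isColimitOfReflects (forget CommRingCat) (Types.FilteredColimit.isColimitOf' _ _
    (fun x => let ⟨i, y, hy⟩ := h1 x; ⟨i, y, hy.symm⟩)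
    (fun i x y h => h2 i x y h))

variable (A : Type u) [CommRing A] (I : Ideal A) [HenselianRing A I]

/-- Every element lies in a subring which is a henselian pair on a G-ring, compatibly with the ideal. -/
theorem exists_subring_pairs : ∃ (S : Finset A → Subring A) (J : ∀ s, Ideal (S s)),
    Monotone S ∧ (∀ a, a ∈ S {a}) ∧ (∀ s, HenselianRing (S s) (J s) ∧ CAlg.IsGRing (S s)) ∧
      (∀ s (x : S s), x ∈ J s → (x : A) ∈ I) ∧ (∀ a ∈ I, ∃ h : a ∈ S {a}, (⟨a, h⟩ : S {a}) ∈ J {a}) ∧
      ∀ s t (h : S s ≤ S t) (x : S s), s ≤ t → x ∈ J s → Subring.inclusion h x ∈ J t := by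
  classical
  let ι : ULift.{u} ℤ →+* A := (Int.castRingHom A).comp ULift.ringEquiv.toRingHom
  letI : Algebra (ULift.{u} ℤ) A := ι.toAlgebra
  let B : Finset A → Subalgebra (ULift.{u} ℤ) A := fun s => Algebra.adjoin _ (s : Set A)
  let φ : ∀ s, B s →+* A := fun s => (B s).val.toRingHom
  let p : ∀ s, Ideal (B s) := fun s => I.comap (φ s)
  have hH : ∀ s, ∃! g : Hens.PHs (p s) →+* A, g.comp (algebraMap (B s) _) = φ s := fun s =>
    (Hens.PHs.isPairHenselization (R := ↥(B s)) (I := p s)).2 A I (φ s) inferInstance Ideal.map_comap_le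
  choose g hg hgu using hH
  have hmem : ∀ s (b : B s), (b : A) ∈ (g s).range := fun s b =>
    ⟨algebraMap (B s) (Hens.PHs (p s)) b, RingHom.congr_fun (hg s) b⟩
  let P : ∀ s, Ideal (Hens.PHs (p s)) := fun s => (p s).map (algebraMap (B s) (Hens.PHs (p s)))
  have hcompat : ∀ s t, s ≤ t → ∃ l : Hens.PHs (p s) →+* Hens.PHs (p t),
      (g t).comp l = g s ∧ (P s).map l ≤ P t := fun s t hst => by
    have hB : B s ≤ B t := Algebra.adjoin_mono (Finset.coe_subset.2 hst)
    let j := (Subalgebra.inclusion hB).toRingHom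
    have hj : (p s).map ((algebraMap (B t) (Hens.PHs (p t))).comp j) ≤ P t := by
      rw [← Ideal.map_map]
      exact Ideal.map_mono (Ideal.map_le_iff_le_comap.2 fun x hx => hx)
    obtain ⟨l, hl, -⟩ := (Hens.PHs.isPairHenselization (R := B s) (I := p s)).2 (Hens.PHs (p t)) (P t)
      ((algebraMap (B t) (Hens.PHs (p t))).comp j) (Hens.PHs.isPairHenselization (R := B t) (I := p t)).1 hj
    refine ⟨l, hgu s _ ?_, ?_⟩
    · show ((g t).comp l).comp _ = φ s
      rw [RingHom.comp_assoc, hl, ← RingHom.comp_assoc, hg t]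
      rfl
    · rw [Ideal.map_map, hl]
      exact hj
  have hmono : Monotone fun s => (g s).range := fun s t hst x hx => by
    obtain ⟨l, hl, -⟩ := hcompat s t hst
    obtain ⟨y, rfl⟩ := hx
    exact ⟨l y, RingHom.congr_fun hl y⟩
  refine ⟨fun s => (g s).range, fun s => (P s).map (g s).rangeRestrict, hmono,
    fun a => hmem {a} ⟨a, Algebra.subset_adjoin (by simp)⟩, fun s => ?_, fun s x hx => ?_, fun a ha => ?_,
    fun s t h x hst hx => ?_⟩
  · have hG : CAlg.IsGRing (Hens.PHs (p s)) := by
      haveI : Algebra.FiniteType (ULift.{u} ℤ) (B s) :=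
        (Subalgebra.fg_iff_finiteType _).1 (Subalgebra.fg_adjoin_finset s)
      exact GRing6.isGRing_pHs (p s) (GRing6.isGRing_of_finiteType (ULift.{u} ℤ) (B s) HensColimH7.isGRing_uliftInt)
    letI := (g s).rangeRestrict.toAlgebra
    have hs : Function.Surjective (algebraMap (Hens.PHs (p s)) (g s).range) := (g s).rangeRestrict_surjective
    haveI : Algebra.IsIntegral (Hens.PHs (p s)) (g s).range :=
      ⟨fun x => by obtain ⟨y, rfl⟩ := hs x; exact isIntegral_algebraMap⟩
    exact ⟨Hens.henselianRing_of_isIntegral (Hens.PHs.isPairHenselization (R := B s) (I := p s)).1,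
      GRing6.isGRing_of_surjective _ _ hs hG⟩
  · obtain ⟨y, hy, rfl⟩ := (Ideal.mem_map_iff_of_surjective _ (g s).rangeRestrict_surjective).1 hx
    have h1 : (P s).map (g s) ≤ I := by
      rw [Ideal.map_map, hg s]
      exact Ideal.map_comap_le
    exact h1 (Ideal.mem_map_of_mem _ hy)
  · let b : B {a} := ⟨a, Algebra.subset_adjoin (by simp)⟩
    refine ⟨hmem {a} b, ?_⟩
    have hb : b ∈ p {a} := ha
    have := Ideal.mem_map_of_mem (g {a}).rangeRestrict (Ideal.mem_map_of_mem (algebraMap (B {a}) (Hens.PHs (p {a}))) hb)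
    convert! this
    exact (RingHom.congr_fun (hg {a}) b).symm
  · obtain ⟨l, hl, hl'⟩ := hcompat s t hst
    obtain ⟨y, hy, rfl⟩ := (Ideal.mem_map_iff_of_surjective _ (g s).rangeRestrict_surjective).1 hx
    have := Ideal.mem_map_of_mem (g t).rangeRestrict (hl' (Ideal.mem_map_of_mem l hy))
    convert! this
    exact Subtype.ext (RingHom.congr_fun hl y).symm

end Groth.Agent.PiOne25
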