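import Mathlib.RingTheory.Spectrum.Prime.FreeLocus
import Mathlib.RingTheory.Kaehler.TensorProduct
import Mathlib.RingTheory.LocalRing.Module
import Mathlib.RingTheory.Filtration
import Mathlib.RingTheory.OrzechProperty
import Mathlib.RingTheory.RingHom.Etale
import Mathlib.RingTheory.Etale.Basic
import Mathlib.RingTheory.Unramified.Finite
import Mathlib.RingTheory.Finiteness.Nakayama
import Mathlib.LinearAlgebra.TensorProduct.Quotient

/-!
A finite algebra which is étale modulo every power of an ideal is étale near the zero locus of the ideal.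
-/

set_option autoImplicit false
set_option linter.style.haveILetI false

universe u

open TensorProduct

namespace Groth.Agent.PiOne25

/-- A finite module over a Noetherian local ring, free modulo every power of a proper ideal, is free. -/
theorem free_of_forall_free_quot {R : Type u} [CommRing R] [IsNoetherianRing R] [IsLocalRing R] {J : Ideal R}
    (hJ : J ≠ ⊤) (M : Type u) [AddCommGroup M] [Module R M] [Module.Finite R M]
    (h : ∀ n : ℕ, Module.Free (R ⧸ J ^ (n + 1)) ((R ⧸ J ^ (n + 1)) ⊗[R] M)) : Module.Free R M := by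
  let k := IsLocalRing.ResidueField R
  let b := Module.finBasis k (k ⊗[R] M)
  have hsurj : ∀ i, ∃ m : M, (1 : k) ⊗ₜ[R] m = b i := fun i =>
    TensorProduct.mk_surjective R M k IsLocalRing.residue_surjective _
  choose m hm using hsurj
  have hspan : Submodule.span R (Set.range m) = ⊤ := IsLocalRing.span_eq_top_of_tmul_eq_basis m b hm
  let φ := Fintype.linearCombination R m
  have hφ : Function.Surjective φ := by
    rw [← LinearMap.range_eq_top, Fintype.range_linearCombination, hspan]
  suffices hinj : Function.Injective φ from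
    Module.Free.of_equiv (LinearEquiv.ofBijective φ ⟨hinj, hφ⟩)
  rw [injective_iff_map_eq_zero]
  intro x hx
  funext i
  have key : ∀ n : ℕ, x i ∈ J ^ (n + 1) := by
    intro n
    let Rn := R ⧸ J ^ (n + 1)
    have hle : J ^ (n + 1) ≤ IsLocalRing.maximalIdeal R :=
      (Ideal.pow_le_self (Nat.succ_ne_zero n)).trans (IsLocalRing.le_maximalIdeal hJ)
    haveI : Nontrivial Rn := Ideal.Quotient.nontrivial_iff.2 fun e =>
      (IsLocalRing.maximalIdeal.isMaximal R).ne_top (top_le_iff.1 (e ▸ hle))
    letI : Algebra Rn k := (Ideal.Quotient.lift (J ^ (n + 1)) (IsLocalRing.residue R) fun a ha =>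
      Ideal.Quotient.eq_zero_iff_mem.2 (hle ha)).toAlgebra
    haveI : IsScalarTower R Rn k := IsScalarTower.of_algebraMap_eq fun a => rfl
    haveI := h n
    let T := Rn ⊗[R] M
    have hrank : Module.finrank Rn T = Module.finrank k (k ⊗[R] M) :=
      (Module.finrank_baseChange (R := k) (S := Rn) (M' := T)).symm.trans
        (LinearEquiv.finrank_eq (AlgebraTensorModule.cancelBaseChange R Rn k k M))
    let e : T ≃ₗ[Rn] (Fin (Module.finrank k (k ⊗[R] M)) → Rn) :=
      (Module.finBasisOfFinrankEq Rn T hrank).equivFun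
    let ψ := Fintype.linearCombination Rn fun j => (1 : Rn) ⊗ₜ[R] m j
    have hψ : Function.Surjective ψ := by
      rw [← LinearMap.range_eq_top, Fintype.range_linearCombination, eq_top_iff]
      intro z _
      induction z with
      | zero => exact zero_mem _
      | add a a' ha ha' => exact add_mem (ha trivial) (ha' trivial)
      | tmul r w =>
        obtain ⟨c, rfl⟩ := hφ w
        rw [Fintype.linearCombination_apply, TensorProduct.tmul_sum]
        refine Submodule.sum_mem _ fun j _ => ?_
        rw [TensorProduct.tmul_smul, ← algebraMap_smul Rn (c j) (r ⊗ₜ[R] m j),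
          show r ⊗ₜ[R] m j = r • ((1 : Rn) ⊗ₜ[R] m j) by rw [TensorProduct.smul_tmul', smul_eq_mul, mul_one]]
        exact Submodule.smul_mem _ _ (Submodule.smul_mem _ _ (Submodule.subset_span ⟨j, rfl⟩))
    have hψinj : Function.Injective ψ := by
      have h1 : Function.Injective (e.toLinearMap.comp ψ) :=
        OrzechProperty.injective_of_surjective_endomorphism _ (e.surjective.comp hψ)
      exact Function.Injective.of_comp (f := e) h1
    have h0 : ψ (fun j => algebraMap R Rn (x j)) = 0 := by
      rw [Fintype.linearCombination_apply]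
      simp_rw [algebraMap_smul, ← TensorProduct.tmul_smul, ← TensorProduct.tmul_sum]
      rw [← Fintype.linearCombination_apply R m x]
      exact (congrArg _ hx).trans (TensorProduct.tmul_zero _ _)
    exact Ideal.Quotient.eq_zero_iff_mem.1 (congrFun (hψinj (h0.trans (map_zero ψ).symm)) i)
  have : x i ∈ ⨅ n : ℕ, J ^ n := Ideal.mem_iInf.2 fun n => Ideal.pow_le_pow_right (Nat.le_succ n) (key n)
  rwa [Ideal.iInf_pow_eq_bot_of_isLocalRing J hJ] at this

variable (R B : Type u) [CommRing R] [IsNoetherianRing R] [CommRing B] [Algebra R B] [Module.Finite R B] (I : Ideal R)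

/-- A finite module flat modulo every power of an ideal is free at the primes containing it. -/
theorem mem_freeLocus_of_flat (M : Type u) [AddCommGroup M] [Module R M] [Module.Finite R M]
    (h : ∀ n : ℕ, Module.Flat (R ⧸ I ^ (n + 1)) ((R ⧸ I ^ (n + 1)) ⊗[R] M))
    (p : PrimeSpectrum R) (hp : I ≤ p.asIdeal) : p ∈ Module.freeLocus R M := by
  let Rp := Localization.AtPrime p.asIdeal
  haveI : IsNoetherianRing Rp := IsLocalization.isNoetherianRing p.asIdeal.primeCompl Rp inferInstance
  rw [Module.mem_freeLocus_iff_tensor p Rp]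
  let J := I.map (algebraMap R Rp)
  have hJle : J ≤ IsLocalRing.maximalIdeal Rp := by
    rw [← Localization.AtPrime.map_eq_maximalIdeal]
    exact Ideal.map_mono hp
  refine free_of_forall_free_quot (ne_top_of_le_ne_top (IsLocalRing.maximalIdeal.isMaximal Rp).ne_top hJle) _ fun n => ?_
  let Rn := R ⧸ I ^ (n + 1)
  let S := Rp ⧸ J ^ (n + 1)
  haveI : Nontrivial S := Ideal.Quotient.nontrivial_iff.2 fun e =>
    (IsLocalRing.maximalIdeal.isMaximal Rp).ne_top
      (top_le_iff.1 (e ▸ (Ideal.pow_le_self (Nat.succ_ne_zero n)).trans hJle))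
  haveI : IsLocalRing S := IsLocalRing.of_surjective' (Ideal.Quotient.mk _) Ideal.Quotient.mk_surjective
  letI : Algebra Rn S := (Ideal.Quotient.lift (I ^ (n + 1)) (algebraMap R S) fun a ha => by
    rw [IsScalarTower.algebraMap_apply R Rp S, Ideal.Quotient.algebraMap_eq, Ideal.Quotient.eq_zero_iff_mem]
    exact (Ideal.map_pow (algebraMap R Rp) I (n + 1)).le (Ideal.mem_map_of_mem _ ha)).toAlgebra
  haveI : IsScalarTower R Rn S := IsScalarTower.of_algebraMap_eq fun a => rfl
  haveI := h n
  haveI : Module.Flat S (S ⊗[Rp] (Rp ⊗[R] M)) :=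
    Module.Flat.of_linearEquiv
      (AlgebraTensorModule.cancelBaseChange R Rp S S M ≪≫ₗ (AlgebraTensorModule.cancelBaseChange R Rn S S M).symm)
  exact Module.free_of_flat_of_isLocalRing

attribute [local instance] Algebra.TensorProduct.rightAlgebra in
/-- An element congruent to one annihilating the differentials. -/
theorem exists_smul_kaehler_eq_zero (h : Algebra.FormallyUnramified (R ⧸ I) ((R ⧸ I) ⊗[R] B)) :
    ∃ g : R, g - 1 ∈ I ∧ ∀ ω : Ω[B⁄R], g • ω = 0 := by
  haveI := h
  haveI : Module.Finite R Ω[B⁄R] := Module.Finite.trans B _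
  haveI : Subsingleton ((R ⧸ I) ⊗[R] Ω[B⁄R]) :=
    (KaehlerDifferential.tensorKaehlerEquivBase R (R ⧸ I) B ((R ⧸ I) ⊗[R] B)).toEquiv.subsingleton
  have hs : Subsingleton (Ω[B⁄R] ⧸ I • (⊤ : Submodule R Ω[B⁄R])) :=
    (TensorProduct.quotTensorEquivQuotSMul Ω[B⁄R] I).toEquiv.symm.subsingleton
  obtain ⟨g, hg, hg'⟩ := Submodule.exists_sub_one_mem_and_smul_eq_zero_of_fg_of_le_smul I
    (⊤ : Submodule R Ω[B⁄R]) Module.Finite.fg_top
    (Submodule.Quotient.subsingleton_iff.1 hs).ge
  exact ⟨g, hg, fun ω => hg' ω trivial⟩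

attribute [local instance] Algebra.TensorProduct.rightAlgebra in
/-- A finite algebra étale modulo every power of an ideal is étale near its zero locus. -/
theorem exists_etale_away (h : ∀ n : ℕ, Algebra.Etale (R ⧸ I ^ (n + 1)) ((R ⧸ I ^ (n + 1)) ⊗[R] B))
    (p : PrimeSpectrum R) (hp : I ≤ p.asIdeal) :
    ∃ g : R, g ∉ p.asIdeal ∧ Algebra.Etale (Localization.Away g) (Localization.Away g ⊗[R] B) := by
  haveI : Module.FinitePresentation R B := Module.finitePresentation_of_finite R B
  have hp0 : p ∈ Module.freeLocus R B := mem_freeLocus_of_flat R I B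
    (fun n => by haveI := h n; infer_instance) p hp
  obtain ⟨_, ⟨_, ⟨g₀, rfl⟩, rfl⟩, hg₀p, hg₀⟩ :=
    PrimeSpectrum.isBasis_basic_opens.exists_subset_of_mem_open hp0 Module.isOpen_freeLocus
  have h1 : Algebra.FormallyUnramified (R ⧸ I) ((R ⧸ I) ⊗[R] B) := by
    have h0 := h 0
    rw [Nat.zero_add, pow_one] at h0
    infer_instance
  obtain ⟨g₁, hg₁, hω⟩ := exists_smul_kaehler_eq_zero R B I h1
  have hg₁p : g₁ ∉ p.asIdeal := fun hc => p.2.ne_top ((Ideal.eq_top_iff_one _).2 (by
    simpa using sub_mem hc (hp hg₁)))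
  refine ⟨g₀ * g₁, fun hc => (p.2.mem_or_mem hc).elim hg₀p hg₁p, ?_⟩
  let g := g₀ * g₁
  let L := Localization.Away g
  haveI : Module.Flat L (L ⊗[R] B) := by
    have hsub : (PrimeSpectrum.basicOpen g : Set (PrimeSpectrum R)) ⊆ Module.freeLocus R B :=
      fun q hq => hg₀ (fun hc => hq (Ideal.mul_mem_right _ _ hc))
    haveI : Module.Projective L (LocalizedModule.Away g B) := Module.basicOpen_subset_freeLocus_iff.1 hsub
    haveI : Module.Flat L (LocalizedModule.Away g B) := Module.Flat.of_projective
    exact Module.Flat.of_linearEquiv (IsLocalizedModule.isBaseChange (Submonoid.powers g) L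
      (LocalizedModule.mkLinearMap (Submonoid.powers g) B)).equiv
  haveI : Subsingleton (L ⊗[R] Ω[B⁄R]) := by
    refine subsingleton_of_forall_eq 0 fun z => ?_
    induction z with
    | zero => rfl
    | add a a' ha ha' => rw [ha, ha', add_zero]
    | tmul l ω =>
      obtain ⟨u, hu⟩ := IsLocalization.Away.algebraMap_isUnit (S := L) g
      have : l = g • (l * (↑u⁻¹ : L)) := by
        rw [Algebra.smul_def, ← hu, ← mul_assoc, mul_comm (u : L) l, mul_assoc, Units.mul_inv, mul_one]
      rw [this, TensorProduct.smul_tmul, show g • ω = g₁ • (g₀ • ω) from by rw [smul_smul, mul_comm], hω, TensorProduct.tmul_zero]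
  haveI : Algebra.FormallyUnramified L (L ⊗[R] B) :=
    ⟨(KaehlerDifferential.tensorKaehlerEquivBase R L B (L ⊗[R] B)).symm.toEquiv.subsingleton⟩
  haveI : Algebra.FinitePresentation R B :=
    Algebra.FinitePresentation.of_finiteType.1 (inferInstance : Algebra.FiniteType R B)
  exact .of_formallyUnramified_of_flat

end Groth.Agent.PiOne25
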