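import Groth.Agent.Lib.PiOne25.EtaleMod
import Groth.Agent.Lib.FormalH7.SmoothLift
import Groth.Prelude.Def_CohB1
import Mathlib.AlgebraicGeometry.Morphisms.Etale
import Mathlib.AlgebraicGeometry.Morphisms.Finite
import Mathlib.AlgebraicGeometry.Morphisms.Proper

/-!
A finite morphism to a proper scheme which is étale over every thickening is étale.
-/

set_option autoImplicit false
set_option linter.style.haveILetI false
set_option backward.isDefEq.respectTransparency false

universe u

open CategoryTheory CategoryTheory.Limits AlgebraicGeometry TopologicalSpace TensorProduct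

namespace Groth.Agent.PiOne25

/-- The square of spectra of a tensor product. -/
theorem isPullback_spec_tensor (R T B : Type u) [CommRing R] [CommRing T] [CommRing B] [Algebra R T] [Algebra R B] :
    IsPullback (Spec.map (CommRingCat.ofHom (Algebra.TensorProduct.includeRight : B →ₐ[R] T ⊗[R] B).toRingHom))
      (Spec.map (CommRingCat.ofHom (algebraMap T (T ⊗[R] B))))
      (Spec.map (CommRingCat.ofHom (algebraMap R B))) (Spec.map (CommRingCat.ofHom (algebraMap R T))) :=
  (isPullback_SpecMap_of_isPushout _ _ _ _ (CommRingCat.isPushout_tensorProduct R T B)).flip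

variable {A : Type u} [CommRing A] [IsNoetherianRing A] {I : Ideal A} {X W : Scheme.{u}}
  (f : X ⟶ Spec (CommRingCat.of A)) (i : W ⟶ X) [IsFinite i]

/-- Near a point over the zero locus of the ideal, a finite morphism étale over all thickenings is étale. -/
theorem exists_etale_nhd [LocallyOfFiniteType f] (h : ∀ n, Etale (pullback.snd i (CohB1.thickι f I n)))
    (x : X) (hx : I ≤ (f x).asIdeal) : ∃ U : X.Opens, x ∈ U ∧ Etale (i ∣_ U) := by
  obtain ⟨U, hU, hxU, -⟩ := exists_isAffineOpen_mem_and_subset (x := x) (U := ⊤) trivial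
  let R := Γ(X, U)
  let B := Γ(W, i ⁻¹ᵁ U)
  letI : Algebra R B := (i.app U).hom.toAlgebra
  haveI : Module.Finite R B := i.finite_app U hU
  haveI : IsLocallyNoetherian X := LocallyOfFiniteType.isLocallyNoetherian f
  haveI : IsNoetherianRing R := IsLocallyNoetherian.component_noetherian ⟨U, hU⟩
  let ψ := Spec.preimage (hU.fromSpec ≫ f)
  have hψ : Spec.map ψ = hU.fromSpec ≫ f := Spec.map_preimage _
  letI : Algebra A R := ψ.hom.toAlgebra
  let IR := I.map ψ.hom
  have sq : IsPullback (hU.preimage i).fromSpec (Spec.map (CommRingCat.ofHom (algebraMap R B))) i hU.fromSpec :=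
    FormalH7.isPullback_fromSpec_app i hU (hU.preimage i)
  have hmod : ∀ n : ℕ, Algebra.Etale (R ⧸ IR ^ (n + 1)) ((R ⧸ IR ^ (n + 1)) ⊗[R] B) := by
    intro n
    let T := R ⧸ IR ^ (n + 1)
    let g := Spec.map (CommRingCat.ofHom (algebraMap R T)) ≫ hU.fromSpec
    have hle : ∀ a ∈ I ^ (n + 1), (algebraMap R T).comp ψ.hom a = 0 := fun a ha => by
      rw [RingHom.comp_apply, Ideal.Quotient.algebraMap_eq, Ideal.Quotient.eq_zero_iff_mem]
      exact (Ideal.map_pow ψ.hom I (n + 1)).le (Ideal.mem_map_of_mem _ ha)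
    have hg : g ≫ f = Spec.map (CommRingCat.ofHom (Ideal.Quotient.lift (I ^ (n + 1)) ((algebraMap R T).comp ψ.hom) hle)) ≫
        CohB1.specQuot I n := by
      rw [Category.assoc, ← hψ, CohB1.specQuot, ← Spec.map_comp, ← Spec.map_comp]
      congr 1
    let g' : Spec (CommRingCat.of T) ⟶ CohB1.thick f I n := pullback.lift g _ hg
    have hg' : g' ≫ CohB1.thickι f I n = g := pullback.lift_fst _ _ _
    haveI := h n
    have he : Etale (pullback.snd i g) := by
      have hh : Etale (pullback.snd (pullback.snd i (CohB1.thickι f I n)) g') := inferInstance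
      rw [← hg']
      have e := pullbackLeftPullbackSndIso_hom_snd i (CohB1.thickι f I n) g'
      rw [show pullback.snd i (g' ≫ CohB1.thickι f I n) =
        (pullbackLeftPullbackSndIso i (CohB1.thickι f I n) g').inv ≫ pullback.snd _ g' from by
          rw [Iso.eq_inv_comp]; exact e]
      infer_instance
    have P := ((isPullback_spec_tensor R T B).paste_horiz sq)
    have he2 : Etale (Spec.map (CommRingCat.ofHom (algebraMap T (T ⊗[R] B)))) := by
      rw [← P.isoPullback_hom_snd]
      infer_instance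
    exact RingHom.etale_algebraMap.1 ((HasRingHomProperty.Spec_iff (P := @Etale)).1 he2)
  obtain ⟨y, rfl⟩ : x ∈ Set.range hU.fromSpec := by rw [hU.range_fromSpec]; exact hxU
  have hy : IR ≤ y.asIdeal := by
    refine Ideal.map_le_iff_le_comap.2 fun a ha => ?_
    have h1 := hx ha
    rw [← Scheme.Hom.comp_apply, ← hψ] at h1
    exact h1
  obtain ⟨g, hgy, hg⟩ := exists_etale_away R B IR hmod y hy
  let L := Localization.Away g
  let j := Spec.map (CommRingCat.ofHom (algebraMap R L)) ≫ hU.fromSpec
  haveI : IsOpenImmersion (Spec.map (CommRingCat.ofHom (algebraMap R L))) :=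
    IsOpenImmersion.of_isLocalization g
  refine ⟨j.opensRange, ?_, ?_⟩
  · obtain ⟨z, hz⟩ : y ∈ Set.range (Spec.map (CommRingCat.ofHom (algebraMap R L))) := by
      refine (PrimeSpectrum.localization_away_comap_range L g).symm ▸ ?_
      exact hgy
    exact ⟨z, by rw [← hz]; rfl⟩
  · rw [MorphismProperty.arrow_mk_iso_iff @Etale (morphismRestrictOpensRange i j)]
    have P := (isPullback_spec_tensor R L B).paste_horiz sq
    haveI : Etale (Spec.map (CommRingCat.ofHom (algebraMap L (L ⊗[R] B)))) :=
      (HasRingHomProperty.Spec_iff (P := @Etale)).2 (RingHom.etale_algebraMap.2 hg)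
    rw [← P.isoPullback_inv_snd]
    infer_instance

/-- A finite morphism to a proper scheme, étale over every thickening, is étale. -/
theorem etale_of_etale_thick [IsProper f] (hI : I ≤ (⊥ : Ideal A).jacobson)
    (h : ∀ n, Etale (pullback.snd i (CohB1.thickι f I n))) : Etale i := by
  let ι := {U : X.Opens // Etale (i ∣_ U)}
  suffices htop : (⨆ U : ι, U.1) = ⊤ from
    (IsZariskiLocalAtTarget.iff_of_iSup_eq_top (P := @Etale) (fun U : ι => U.1) htop).2 fun U => U.2
  by_contra hne
  let S : Set X := ((⨆ U : ι, U.1 : X.Opens) : Set X)ᶜ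
  have hS : S.Nonempty := Set.nonempty_compl.2 fun e => hne (SetLike.coe_injective e)
  have hcl : IsClosed (f '' S) := f.isClosedMap _ (⨆ U : ι, U.1 : X.Opens).2.isClosed_compl
  obtain ⟨J, hJ⟩ := (PrimeSpectrum.isClosed_iff_zeroLocus_ideal _).1 hcl
  have hJne : J ≠ ⊤ := fun e => by
    rw [e, Submodule.top_coe, PrimeSpectrum.zeroLocus_univ] at hJ
    exact (hS.image f).ne_empty hJ
  obtain ⟨M, hM, hle⟩ := Ideal.exists_le_maximal J hJne
  have hp : (⟨M, hM.isPrime⟩ : PrimeSpectrum A) ∈ f '' S := by rw [hJ]; exact hle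
  obtain ⟨x, hxS, hx⟩ := hp
  obtain ⟨U, hxU, hU⟩ := exists_etale_nhd f i h x (by rw [hx]; exact hI.trans (sInf_le ⟨bot_le, hM⟩))
  exact hxS (Opens.mem_iSup.2 ⟨⟨U, hU⟩, hxU⟩)

end Groth.Agent.PiOne25
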