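import Groth.Agent.Lib.PiOne25.EssSurj
import Groth.Agent.Lib.AlgClosedExt25.SepClosed
import Groth.Agent.Lib.FEtLimit25.Field
import Mathlib.AlgebraicGeometry.Morphisms.FlatMono
import Mathlib.RingTheory.Etale.Field
import Mathlib.FieldTheory.SeparableClosure
import Mathlib.FieldTheory.IsAlgClosed.AlgebraicClosure

/-!
Covers of the geometric closed fibre are open and closed in restrictions of covers of the total space.
-/

set_option autoImplicit false
set_option linter.style.haveILetI false
set_option backward.isDefEq.respectTransparency false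

universe u

open CategoryTheory CategoryTheory.Limits AlgebraicGeometry IsLocalRing

noncomputable section

namespace Groth.Agent.PiOne25

/-- The comparison of a pullback with the pullback over a coarser base. -/
instance mono_comparison {P Q T R : Scheme.{u}} (g : P ⟶ T) (d : Q ⟶ T) (p : T ⟶ R) :
    Mono (pullback.lift (f := g ≫ p) (g := d ≫ p) (pullback.fst g d) (pullback.snd g d)
      (by rw [← Category.assoc, pullback.condition, Category.assoc])) :=
  ⟨fun {Z} a b h => by
    apply pullback.hom_ext
    · simpa using congrArg (· ≫ pullback.fst _ _) h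
    · simpa using congrArg (· ≫ pullback.snd _ _) h⟩

/-- Covers of the geometric closed fibre of a proper scheme over a henselian local ring. -/
theorem exists_openClosed (A : Type u) [CommRing A] [IsLocalRing A] [HenselianRing A (maximalIdeal A)]
    {X : Scheme.{u}} (f : X ⟶ Spec (CommRingCat.of A)) [IsProper f]
    (ξ : Spec (CommRingCat.of (AlgebraicClosure (ResidueField A))) ⟶ Spec (CommRingCat.of A))
    (hξ : ξ = Spec.map (CommRingCat.ofHom ((algebraMap (ResidueField A)
      (AlgebraicClosure (ResidueField A))).comp (residue A))))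
    (V : FEt.Cat (pullback f ξ)) :
    ∃ (U : FEt.Cat X) (ι : V ⟶ (FEt.restrict (pullback.fst f ξ)).obj U),
      IsOpenImmersion ι.left ∧ IsClosedImmersion ι.left := by
  let k := ResidueField A
  let Kb := AlgebraicClosure k
  let Ks := separableClosure k Kb
  let qk : Spec (CommRingCat.of k) ⟶ Spec (CommRingCat.of A) := Spec.map (CommRingCat.ofHom (residue A))
  let sKs := Spec.map (CommRingCat.ofHom (algebraMap k Ks))
  let sKb := Spec.map (CommRingCat.ofHom (algebraMap Ks Kb))
  have hcomp : (sKb ≫ sKs) ≫ qk = ξ := by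
    rw [hξ, ← Spec.map_comp, ← Spec.map_comp]
    rfl
  let f₀ := pullback.snd f qk
  let pK := pullback.fst f₀ sKs
  let b : pullback f ξ ⟶ pullback f qk := pullback.lift (pullback.fst f ξ) (pullback.snd f ξ ≫ sKb ≫ sKs)
    (by rw [Category.assoc, hcomp]; exact pullback.condition)
  let a : pullback f ξ ⟶ pullback f₀ sKs := pullback.lift b (pullback.snd f ξ ≫ sKb)
    (by rw [pullback.lift_snd, Category.assoc])
  have hb : IsPullback b (pullback.snd f ξ) f₀ (sKb ≫ sKs) :=
    IsPullback.of_right (h₁₂ := pullback.fst f qk) (h₂₂ := qk) (v₁₃ := f)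
      (by rw [pullback.lift_fst, hcomp]; exact IsPullback.of_hasPullback _ _)
      (pullback.lift_snd _ _ _) (IsPullback.of_hasPullback _ _)
  have ha : IsPullback a (pullback.snd f ξ) (pullback.snd f₀ sKs) sKb :=
    IsPullback.of_right (h₁₂ := pK) (h₂₂ := sKs) (v₁₃ := f₀)
      (by rw [pullback.lift_fst]; exact hb) (pullback.lift_snd _ _ _) (IsPullback.of_hasPullback _ _)
  haveI := AlgClosedExt25.isEquivalence_fst_of_purelyInseparable Ks Kb a _ _ ha
  obtain ⟨Vs, ⟨es⟩⟩ := Functor.EssSurj.mem_essImage (FEt.restrict a) V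
  let p : Vs.left ⟶ pullback f₀ sKs := Vs.hom
  haveI : IsFinite p := Vs.prop.1
  haveI : Etale p := Vs.prop.2
  haveI : CompactSpace ↥(pullback f qk) := QuasiCompact.compactSpace_of_compactSpace f₀
  haveI : QuasiSeparatedSpace ↥(pullback f qk) := quasiSeparatedSpace_of_quasiSeparated f₀
  obtain ⟨L, hL, YL, gL, hgf, hge, c, hc1, -, e, he⟩ := FEtLimit25.exists_model_field k Ks f₀ p
  haveI := hgf
  haveI := hge
  haveI : FiniteDimensional k L := hL
  haveI : Algebra.IsSeparable k L := inferInstance
  haveI : Algebra.FormallyEtale k L := Algebra.FormallyEtale.of_isSeparable k L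
  haveI : Algebra.FinitePresentation k L := Algebra.FinitePresentation.of_finiteType.1 inferInstance
  haveI : Algebra.Etale k L := {}
  let sL := Spec.map (CommRingCat.ofHom (algebraMap k L))
  haveI : Etale sL := (HasRingHomProperty.Spec_iff (P := @Etale)).2 (RingHom.etale_algebraMap.2 inferInstance)
  haveI : IsFinite sL := (IsFinite.SpecMap_iff _).2 (RingHom.finite_algebraMap.2 inferInstance)
  let pL := pullback.fst f₀ sL
  let W : FEt.Cat (pullback f qk) := MorphismProperty.Over.mk ⊤ (gL ≫ pL) ⟨inferInstance, inferInstance⟩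
  haveI : (FEt.restrict (pullback.fst f qk)).IsEquivalence := isEquivalence_closedFibre A (maximalIdeal A) f
  obtain ⟨U, ⟨eU⟩⟩ := Functor.EssSurj.mem_essImage (FEt.restrict (pullback.fst f qk)) W
  let d := a ≫ c
  have hd : (d ≫ pL) ≫ pullback.fst f qk = pullback.fst f ξ := by
    rw [Category.assoc a c pL, hc1, pullback.lift_fst, pullback.lift_fst]
  let CL : FEt.Cat (pullback f₀ sL) := MorphismProperty.Over.mk ⊤ gL ⟨inferInstance, inferInstance⟩
  let e₁ : V ≅ (FEt.restrict d).obj CL :=
    es.symm ≪≫ (FEt.restrict a).mapIso (MorphismProperty.Over.isoMk he.isoPullback he.isoPullback_hom_snd) ≪≫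
      ((Pur25.restrictComp a c).app CL).symm
  let e₂ : (FEt.restrict (d ≫ pL)).obj W ≅ (FEt.restrict (pullback.fst f ξ)).obj U :=
    (FEt.restrict (d ≫ pL)).mapIso eU.symm ≪≫ ((Pur25.restrictComp (d ≫ pL) (pullback.fst f qk)).app U).symm ≪≫
      (MorphismProperty.Over.pullbackCongr hd).app U
  let m : pullback gL d ⟶ pullback (gL ≫ pL) (d ≫ pL) := pullback.lift (pullback.fst gL d) (pullback.snd gL d)
    (by rw [← Category.assoc, pullback.condition, Category.assoc])
  let κ : (FEt.restrict d).obj CL ⟶ (FEt.restrict (d ≫ pL)).obj W :=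
    MorphismProperty.Over.homMk m (pullback.lift_snd _ _ _)
  refine ⟨U, e₁.hom ≫ κ ≫ e₂.hom, ?_⟩
  let ι := e₁.hom ≫ κ ≫ e₂.hom
  haveI : Mono ι.left := by
    haveI : IsIso e₁.hom.left := ((MorphismProperty.Over.forget _ _ _ ⋙ Over.forget _).mapIso e₁).isIso_hom
    haveI : IsIso e₂.hom.left := ((MorphismProperty.Over.forget _ _ _ ⋙ Over.forget _).mapIso e₂).isIso_hom
    show Mono (e₁.hom.left ≫ m ≫ e₂.hom.left)
    infer_instance
  let T := ((FEt.restrict (pullback.fst f ξ)).obj U).hom
  haveI : IsFinite T := ((FEt.restrict (pullback.fst f ξ)).obj U).prop.1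
  haveI : Etale T := ((FEt.restrict (pullback.fst f ξ)).obj U).prop.2
  have hw : ι.left ≫ T = V.hom := Over.w ((MorphismProperty.Over.forget _ _ _).map ι)
  haveI : IsFinite (ι.left ≫ T) := hw ▸ V.prop.1
  haveI : Etale (ι.left ≫ T) := hw ▸ V.prop.2
  haveI : Etale ι.left := MorphismProperty.of_postcomp (W := @Etale) (W' := @Etale) ι.left T ‹_› ‹_›
  haveI : IsProper ι.left := IsProper.of_comp ι.left T
  exact ⟨IsOpenImmersion.of_flat_of_mono ι.left, (IsClosedImmersion.iff_isProper_and_mono _).2 ⟨inferInstance, inferInstance⟩⟩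

end Groth.Agent.PiOne25
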