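import Groth.Agent.Lib.PiOne25.EssSurj
import Groth.Agent.S17758
import Groth.Agent.Lib.Hens.Local
import Groth.Agent.Lib.Compl.Complete
import Groth.Agent.Lib.VarDim.Alg
import Groth.Agent.Lib.RegLoc.Basic
import Groth.Agent.Lib.SmoothReg17.Basic
import Groth.Agent.Lib.Ram25.Jac
import Groth.Agent.Lib.FEtEq25.Graph

/-!
Clopen subsets of punctured finite étale covers of complete local rings of virtual dimension at least two extend.
-/

set_option autoImplicit false
set_option linter.style.haveILetI false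
set_option backward.isDefEq.respectTransparency false

universe u

open CategoryTheory CategoryTheory.Limits AlgebraicGeometry TopologicalSpace

namespace Groth.Agent.PiOne25

variable {S S' : Type u} [CommRing S] [IsRegularLocalRing S] [CommRing S'] [Algebra S S']
  [Module.Finite S S'] [Algebra.Etale S S']

/-- A local factor of a finite étale algebra over a complete regular local ring has connected punctured zero
locus of few equations. -/
theorem isConnected_factor [HenselianLocalRing S] [IsAdicComplete (IsLocalRing.maximalIdeal S) S] (d : ℕ) (hd : ringKrullDim S = d)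
    (s : Finset S) (hsm : ∀ x ∈ s, x ∈ IsLocalRing.maximalIdeal S) (hs : s.card + 2 ≤ d)
    (n : MaximalSpectrum S') :
    _root_.IsConnected {Q : PrimeSpectrum S' | Q.asIdeal ≤ n.asIdeal ∧
      Ideal.span (s : Set S) ≤ Q.asIdeal.comap (algebraMap S S') ∧
      Q.asIdeal.comap (algebraMap S S') ≠ IsLocalRing.maximalIdeal S} := by
  classical
  haveI : Algebra.IsIntegral S S' := Algebra.IsIntegral.of_finite S S'
  haveI : IsRegularRing S := Ram25.isRegularRing_of_isRegularLocalRing S
  let T := Localization.AtPrime n.asIdeal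
  haveI : IsNoetherianRing S' := IsNoetherianRing.of_finite S S'
  haveI : IsRegularLocalRing T := SmoothReg17.isRegularLocalRing_of_etale (A := S) n.asIdeal
  haveI : IsDomain T := RegLoc.isDomain T
  have hsurj : Function.Surjective (algebraMap S' T) := fun t => by
    obtain ⟨z, hz⟩ := (Hens.bijective_pi_localization_of_henselian (A := S) (B := S')).2
      (Function.update 0 n t)
    refine ⟨z, ?_⟩
    have := congrFun hz n
    simpa using this
  haveI : Module.Finite S T :=
    Module.Finite.of_surjective (IsScalarTower.toAlgHom S S' T).toLinearMap hsurj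
  haveI : Algebra.IsIntegral S T := Algebra.IsIntegral.of_finite S T
  haveI : Module.Flat S T := Module.Flat.trans S S' T
  have hm : (IsLocalRing.maximalIdeal T).comap (algebraMap S T) = IsLocalRing.maximalIdeal S :=
    IsLocalRing.eq_maximalIdeal (Ideal.isMaximal_comap_of_isIntegral_of_isMaximal _)
  haveI : IsLocalHom (algebraMap S T) :=
    ((IsLocalRing.local_hom_TFAE (algebraMap S T)).out 4 0 :).1 hm
  haveI : Module.FaithfullyFlat S T := Module.FaithfullyFlat.of_flat_of_isLocalHom
  have hinj : Function.Injective (algebraMap S T) := FaithfulSMul.algebraMap_injective S T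
  have hdimT : ringKrullDim T = d := by rw [VarDim.ringKrullDim_eq_of_isIntegral hinj, hd]
  have hc : IsAdicComplete ((IsLocalRing.maximalIdeal S).map (algebraMap S T)) T := by
    rw [IsAdicComplete.map_algebraMap_iff]
    exact Compl.isAdicComplete_of_finite _ T
  have hle : (IsLocalRing.maximalIdeal S).map (algebraMap S T) ≤ IsLocalRing.maximalIdeal T :=
    Ideal.map_le_iff_le_comap.2 hm.ge
  obtain ⟨k, hk⟩ : ∃ k, IsLocalRing.maximalIdeal T ^ k ≤ (IsLocalRing.maximalIdeal S).map (algebraMap S T) := by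
    refine Ideal.exists_pow_le_of_le_radical_of_fg ?_ (IsNoetherian.noetherian _)
    rw [Ideal.radical_eq_sInf]
    refine le_sInf fun P ⟨hP, hPp⟩ => ?_
    have h1 : P.comap (algebraMap S T) = IsLocalRing.maximalIdeal S :=
      (((IsLocalRing.maximalIdeal.isMaximal S).eq_of_le (Ideal.comap_ne_top _ hPp.ne_top))
        (Ideal.map_le_iff_le_comap.1 hP)).symm
    haveI := hPp
    haveI : P.IsMaximal := Ideal.isMaximal_of_isIntegral_of_isMaximal_comap (R := S) P
      (by rw [h1]; infer_instance)
    exact (IsLocalRing.eq_maximalIdeal this).ge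
  haveI : IsAdicComplete (IsLocalRing.maximalIdeal T) T :=
    Compl.isAdicComplete_of_le_of_pow_le T hle hk
  let f : Fin s.card → T := fun i => algebraMap S T (s.equivFin.symm i)
  have hrange : Set.range f = algebraMap S T '' (s : Set S) := by
    ext y
    constructor
    · rintro ⟨i, rfl⟩
      exact ⟨_, (s.equivFin.symm i).2, rfl⟩
    · rintro ⟨x, hx, rfl⟩
      exact ⟨s.equivFin ⟨x, hx⟩, by simp [f]⟩
  have hspan : Ideal.span (Set.range f) = (Ideal.span (s : Set S)).map (algebraMap S T) := by
    rw [hrange, Ideal.map_span]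
  have htop : Ideal.span (Set.range f) ≠ ⊤ := by
    rw [hspan]
    exact ne_top_of_le_ne_top (IsLocalRing.maximalIdeal.isMaximal T).ne_top
      ((Ideal.map_mono (Ideal.span_le.2 hsm)).trans hle)
  have h := Groth.Agent.S17758.result T d hdimT s.card hs f (Ideal.span (Set.range f)) htop rfl
  have himg : {Q : PrimeSpectrum S' | Q.asIdeal ≤ n.asIdeal ∧
      Ideal.span (s : Set S) ≤ Q.asIdeal.comap (algebraMap S S') ∧
      Q.asIdeal.comap (algebraMap S S') ≠ IsLocalRing.maximalIdeal S} =
      PrimeSpectrum.comap (algebraMap S' T) ''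
        {x : PrimeSpectrum T | Ideal.span (Set.range f) ≤ x.asIdeal ∧
          x.asIdeal ≠ IsLocalRing.maximalIdeal T} := by
    have hcomp : ∀ x : PrimeSpectrum T, (PrimeSpectrum.comap (algebraMap S' T) x).asIdeal.comap (algebraMap S S') =
        x.asIdeal.comap (algebraMap S T) := fun x => by
      rw [PrimeSpectrum.comap_asIdeal, Ideal.comap_comap, ← IsScalarTower.algebraMap_eq]
    ext Q
    constructor
    · rintro ⟨hQn, hQs, hQm⟩
      obtain ⟨x, rfl⟩ : Q ∈ Set.range (PrimeSpectrum.comap (algebraMap S' T)) := by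
        rw [PrimeSpectrum.localization_comap_range T n.asIdeal.primeCompl]
        exact Set.disjoint_left.2 fun a ha ha' => ha (hQn ha')
      refine ⟨x, ⟨?_, fun hx => hQm ?_⟩, rfl⟩
      · rw [hspan, Ideal.map_le_iff_le_comap, ← hcomp]
        exact hQs
      · rw [hcomp, hx, hm]
    · rintro ⟨x, ⟨hxs, hxm⟩, rfl⟩
      refine ⟨?_, ?_, fun hx => hxm ?_⟩
      · intro a ha
        by_contra han
        have hu : IsUnit (algebraMap S' T a) := IsLocalization.map_units T (⟨a, han⟩ : n.asIdeal.primeCompl)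
        exact x.2.ne_top (Ideal.eq_top_of_isUnit_mem _ ha hu)
      · rw [hcomp, ← Ideal.map_le_iff_le_comap, ← hspan]
        exact hxs
      · rw [hcomp] at hx
        haveI : x.asIdeal.IsMaximal := Ideal.isMaximal_of_isIntegral_of_isMaximal_comap (R := S) x.asIdeal
          (by rw [hx]; infer_instance)
        exact IsLocalRing.eq_maximalIdeal this
  rw [himg]
  exact h.image _ (PrimeSpectrum.continuous_comap _).continuousOn

/-- The primes below a maximal ideal of a finite algebra over a henselian local ring form clopen pieces. -/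
theorem isClopen_factor [HenselianLocalRing S] (n : MaximalSpectrum S') :
    IsClopen {Q : PrimeSpectrum S' | Q.asIdeal ≤ n.asIdeal} := by
  classical
  obtain ⟨e, he⟩ := (Hens.bijective_pi_localization_of_henselian (A := S) (B := S')).2 (Pi.single n 1)
  have hid : IsIdempotentElem e := by
    refine (Hens.bijective_pi_localization_of_henselian (A := S) (B := S')).1 ?_
    rw [map_mul, he]
    funext j
    rcases eq_or_ne j n with rfl | h
    · simp
    · simp [Pi.single_eq_of_ne h]
  have hmem : ∀ (Q : PrimeSpectrum S'), Q.asIdeal ≤ n.asIdeal ↔ e ∉ Q.asIdeal := by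
    intro Q
    constructor
    · intro hQ heQ
      have h1 : algebraMap S' (Localization.AtPrime n.asIdeal) e = 1 := by
        have := congrFun he n
        simpa using this
      have hu : algebraMap S' (Localization.AtPrime n.asIdeal) e ∈ IsLocalRing.maximalIdeal _ :=
        (IsLocalization.AtPrime.to_map_mem_maximal_iff (Localization.AtPrime n.asIdeal) n.asIdeal e).2 (hQ heQ)
      rw [h1] at hu
      exact (IsLocalRing.maximalIdeal.isMaximal _).ne_top ((Ideal.eq_top_iff_one _).2 hu)
    · intro heQ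
      obtain ⟨m, hm, hQm⟩ := Ideal.exists_le_maximal Q.asIdeal Q.2.ne_top
      obtain rfl | hne := eq_or_ne (⟨m, hm⟩ : MaximalSpectrum S') n
      · exact hQm
      exfalso
      have h0 : algebraMap S' (Localization.AtPrime (⟨m, hm⟩ : MaximalSpectrum S').asIdeal) e = 0 := by
        have := congrFun he ⟨m, hm⟩
        simpa [Pi.single_eq_of_ne hne] using this
      obtain ⟨⟨t, ht⟩, hte⟩ := (IsLocalization.map_eq_zero_iff m.primeCompl _ e).1 h0
      exact (Q.2.mem_or_mem (show t * e ∈ Q.asIdeal by rw [hte]; exact zero_mem _)).elim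
        (fun h => ht (hQm h)) heQ
  have hset : {Q : PrimeSpectrum S' | Q.asIdeal ≤ n.asIdeal} = PrimeSpectrum.basicOpen e := by
    ext Q
    exact hmem Q
  rw [hset]
  exact ⟨(PrimeSpectrum.isClopen_iff.2 ⟨e, hid, rfl⟩).1, PrimeSpectrum.isOpen_basicOpen⟩

/-- Clopen subsets of the punctured part of a finite étale cover extend to the cover. -/
theorem exists_clopen_extension {R : Type u} [CommRing R] [IsLocalRing R]
    [IsAdicComplete (IsLocalRing.maximalIdeal S) S] [HenselianLocalRing S]
    (d : ℕ) (hd : ringKrullDim S = d) (s : Finset S) (hsm : ∀ x ∈ s, x ∈ IsLocalRing.maximalIdeal S)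
    (hs : s.card + 2 ≤ d) (e : (S ⧸ Ideal.span (s : Set S)) ≃+* R)
    {W : Scheme.{u}} (w : W ⟶ Spec (CommRingCat.of R)) [IsFinite w] [Etale w]
    (C C' : Set W) (hC : IsOpen C) (hC' : IsOpen C')
    (h : ∀ x : W, w x ≠ IsLocalRing.closedPoint R → (x ∈ C' ↔ x ∉ C)) :
    ∃ D : Set W, IsClopen D ∧ ∀ x : W, w x ≠ IsLocalRing.closedPoint R → (x ∈ D ↔ x ∈ C) := by
  classical
  let I := Ideal.span (s : Set S)
  have hI : I ≤ IsLocalRing.maximalIdeal S := Ideal.span_le.2 hsm
  haveI : HenselianRing S I := Hens.henselianRing_of_le (Hens.henselianRing_maximalIdeal S) hI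
  let eR : Spec (CommRingCat.of R) ≅ Spec (CommRingCat.of (S ⧸ I)) :=
    Scheme.Spec.mapIso e.toCommRingCatIso.op
  let mk := Spec.map (CommRingCat.ofHom (Ideal.Quotient.mk I))
  let Y₀ : FEt.Cat (pullback (𝟙 (Spec (CommRingCat.of S))) mk) :=
    MorphismProperty.Over.mk ⊤ (w ≫ eR.hom ≫ inv (pullback.snd _ _)) ⟨inferInstance, inferInstance⟩
  haveI := isEquivalence_closedFibre S I (𝟙 (Spec (CommRingCat.of S)))
  obtain ⟨V, ⟨ε⟩⟩ := Functor.EssSurj.mem_essImage (F := FEt.restrict (pullback.fst (𝟙 _) mk)) Y₀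
  haveI : IsFinite V.hom := V.prop.1
  haveI : Etale V.hom := V.prop.2
  let j : W ⟶ V.left := ε.inv.left ≫ pullback.fst V.hom (pullback.fst (𝟙 _) mk)
  haveI : IsIso ε.inv.left := (MorphismProperty.Over.forget _ _ _ ⋙ CategoryTheory.Over.forget _).map_isIso ε.inv
  haveI : IsClosedImmersion j := inferInstance
  have hj : j ≫ V.hom = w ≫ eR.hom ≫ mk := by
    rw [Category.assoc, pullback.condition, ← Category.assoc]
    have h1 : ε.inv.left ≫ pullback.snd V.hom (pullback.fst (𝟙 _) mk) = w ≫ eR.hom ≫ inv (pullback.snd _ _) :=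
      MorphismProperty.Over.w ε.inv
    rw [h1, Category.assoc, Category.assoc]
    congr 2
    rw [IsIso.inv_comp_eq]
    exact (Category.comp_id _).symm.trans pullback.condition
  have hjr : Set.range j = V.hom ⁻¹' Set.range mk := by
    rw [Scheme.Hom.comp_base, TopCat.coe_comp]
    refine (Function.Surjective.range_comp (f := ⇑ε.inv.left) ε.inv.left.surjective _).trans ?_
    refine (Scheme.Pullback.range_fst _ _).trans ?_
    congr 1
    have : pullback.fst (𝟙 (Spec (CommRingCat.of S))) mk = pullback.snd _ _ ≫ mk :=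
      (Category.comp_id _).symm.trans pullback.condition
    rw [this, Scheme.Hom.comp_base, TopCat.coe_comp, (pullback.snd (𝟙 _) mk).surjective.range_comp]
    rfl
  haveI : IsAffine V.left := @isAffine_of_isAffineHom V.left (Spec (CommRingCat.of S)) V.hom _ _
  let S' : CommRingCat.{u} := Γ(V.left, ⊤)
  let ψ : CommRingCat.of S ⟶ S' := Spec.preimage (V.left.isoSpec.inv ≫ V.hom)
  have hψ : Spec.map ψ = V.left.isoSpec.inv ≫ V.hom := Spec.map_preimage _
  haveI : IsFinite (Spec.map ψ) := by rw [hψ]; infer_instance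
  haveI : Etale (Spec.map ψ) := by rw [hψ]; infer_instance
  letI : Algebra S S' := ψ.hom.toAlgebra
  haveI : Module.Finite S S' := (IsFinite.SpecMap_iff ψ).1 inferInstance
  haveI : Algebra.Etale S S' := RingHom.etale_algebraMap.1
    (HasRingHomProperty.Spec_iff.1 ‹Etale (Spec.map ψ)›)
  let φ : W → PrimeSpectrum S' := fun x => V.left.isoSpec.hom (j x)
  have hφc : Continuous φ := V.left.isoSpec.hom.continuous.comp j.continuous
  have hφe : Topology.IsClosedEmbedding φ :=
    (Scheme.homeoOfIso V.left.isoSpec).isClosedEmbedding.comp j.isClosedEmbedding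
  have hφbase : ∀ x, PrimeSpectrum.comap ψ.hom (φ x) = mk (eR.hom (w x)) := fun x => by
    show (Spec.map ψ) (V.left.isoSpec.hom (j x)) = _
    rw [hψ, ← Scheme.Hom.comp_apply, Iso.hom_inv_id_assoc, ← Scheme.Hom.comp_apply, hj,
      Scheme.Hom.comp_apply, Scheme.Hom.comp_apply]
  have hclosed : ∀ x, w x = IsLocalRing.closedPoint R ↔
      (φ x).asIdeal.comap (algebraMap S S') = IsLocalRing.maximalIdeal S := by
    intro x
    let g := Ideal.Quotient.mk I
    have h1 : (φ x).asIdeal.comap (algebraMap S S') =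
        (w x).asIdeal.comap ((e : (S ⧸ I) →+* R).comp g) :=
      congrArg PrimeSpectrum.asIdeal (hφbase x)
    have hes : Function.Surjective ((e : (S ⧸ I) →+* R).comp g) :=
      e.surjective.comp Ideal.Quotient.mk_surjective
    have hmax : (IsLocalRing.maximalIdeal R).comap ((e : (S ⧸ I) →+* R).comp g) = IsLocalRing.maximalIdeal S :=
      IsLocalRing.eq_maximalIdeal (Ideal.comap_isMaximal_of_surjective _ hes)
    rw [h1, ← hmax]
    refine ⟨fun h => by rw [h]; rfl, fun h => PrimeSpectrum.ext ?_⟩
    exact Ideal.comap_injective_of_surjective _ hes h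
  have hrange : ∀ Q : PrimeSpectrum S', I ≤ Q.asIdeal.comap (algebraMap S S') → Q ∈ Set.range φ := by
    intro Q hQ
    have h1 : V.left.isoSpec.inv Q ∈ Set.range j := by
      rw [hjr, Set.mem_preimage]
      have h2 : V.hom (V.left.isoSpec.inv Q) = PrimeSpectrum.comap ψ.hom Q := by
        refine (Scheme.Hom.comp_apply V.left.isoSpec.inv V.hom Q).symm.trans ?_
        rw [← hψ]
        rfl
      rw [h2]
      show _ ∈ Set.range (PrimeSpectrum.comap (Ideal.Quotient.mk I))
      rw [range_comap_of_surjective _ _ Ideal.Quotient.mk_surjective, Ideal.mk_ker]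
      exact hQ
    obtain ⟨x, hx⟩ := h1
    refine ⟨x, ?_⟩
    show V.left.isoSpec.hom (j x) = Q
    rw [hx, ← Scheme.Hom.comp_apply, Iso.inv_hom_id]
    rfl
  have hle : ∀ x, I ≤ (φ x).asIdeal.comap (algebraMap S S') := fun x => by
    intro a ha
    have h1 : (φ x).asIdeal.comap (algebraMap S S') =
        (w x).asIdeal.comap ((e : (S ⧸ I) →+* R).comp (Ideal.Quotient.mk I)) :=
      congrArg PrimeSpectrum.asIdeal (hφbase x)
    rw [h1, Ideal.mem_comap, RingHom.comp_apply, Ideal.Quotient.eq_zero_iff_mem.2 ha, map_zero]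
    exact zero_mem _
  let K : MaximalSpectrum S' → Set W := fun n => φ ⁻¹' {Q | Q.asIdeal ≤ n.asIdeal}
  have hK : ∀ n, IsClopen (K n) := fun n => (isClopen_factor (S := S) n).preimage hφc
  haveI : Finite (MaximalSpectrum S') := Hens.finite_maximalSpectrum (A := S) (B := S')
  have hpiece : ∀ n, ∀ x ∈ K n, w x ≠ IsLocalRing.closedPoint R → x ∈ C →
      ∀ y ∈ K n, w y ≠ IsLocalRing.closedPoint R → y ∈ C := by
    intro n x hx hxw hxC y hy hyw
    by_contra hyC
    let P := {Q : PrimeSpectrum S' | Q.asIdeal ≤ n.asIdeal ∧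
      Ideal.span (s : Set S) ≤ Q.asIdeal.comap (algebraMap S S') ∧
      Q.asIdeal.comap (algebraMap S S') ≠ IsLocalRing.maximalIdeal S}
    have hconn : _root_.IsConnected (φ ⁻¹' P) :=
      (isConnected_factor d hd s hsm hs n).preimage_of_isClosedMap hφe.injective hφe.isClosedMap
        fun Q hQ => hrange Q hQ.2.1
    have hxP : x ∈ φ ⁻¹' P := ⟨hx, hle x, fun hh => hxw ((hclosed x).2 hh)⟩
    have hyP : y ∈ φ ⁻¹' P := ⟨hy, hle y, fun hh => hyw ((hclosed y).2 hh)⟩
    obtain ⟨z, hzP, hzC, hzC'⟩ := hconn.2 C C' hC hC'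
      (fun z hz => by
        by_cases hzC : z ∈ C
        · exact Or.inl hzC
        · exact Or.inr ((h z fun hh => hz.2.2 ((hclosed z).1 hh)).2 hzC))
      ⟨x, hxP, hxC⟩ ⟨y, hyP, (h y hyw).2 hyC⟩
    exact (h z fun hh => hzP.2.2 ((hclosed z).1 hh)).1 hzC' hzC
  let D : Set W := ⋃ n ∈ {n | ∃ x ∈ K n, w x ≠ IsLocalRing.closedPoint R ∧ x ∈ C}, K n
  refine ⟨D, Set.Finite.isClopen_biUnion (Set.toFinite _) fun n _ => hK n, fun x hx => ⟨?_, fun hxC => ?_⟩⟩
  · intro hxD
    simp only [D, Set.mem_iUnion] at hxD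
    obtain ⟨n, ⟨y, hy, hyw, hyC⟩, hxn⟩ := hxD
    exact hpiece n y hy hyw hyC x hxn hx
  · obtain ⟨m, hm, hxm⟩ := Ideal.exists_le_maximal _ (φ x).2.ne_top
    simp only [D, Set.mem_iUnion]
    exact ⟨⟨m, hm⟩, ⟨x, hxm, hx, hxC⟩, hxm⟩

end Groth.Agent.PiOne25
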